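import Groth.Agent.ProVanLib.Formal
import Groth.Agent.ProjLefLib.Cover
import Groth.Agent.SecDivLib.Zero
import Groth.Agent.PnDualLib.ConnSec

/-!
# The Lefschetz condition for the zero scheme of a section of an ample module
-/

set_option autoImplicit false
set_option linter.unusedSectionVars false
set_option linter.style.haveILetI false
set_option maxHeartbeats 1000000
set_option backward.isDefEq.respectTransparency false
set_option backward.isDefEq.respectTransparency.types false
universe u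

open CategoryTheory CategoryTheory.Limits CategoryTheory.Abelian AlgebraicGeometry TopologicalSpace Opposite
open ProjFormLib (ger ger_res ger_map exists_ger res)
open KFlatLib (tens shTm pb)
open CohCmpLib (stk)
open PnDualLib (ins ins_ger bijective_ins)

noncomputable section

namespace ProVanLib

variable {X : Scheme.{u}}

theorem sMap_map₂_ins (C : X.Modules) {A B : X.Modules} (φ : A ⟶ B) (x : X) (g : stk C x) (v : stk A x) :
    FLI.sMap (((DCoh.tensorBi (X := X)).obj C).map φ) x (ins C A x g v) = ins C B x g (FLI.sMap φ x v) := by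
  obtain ⟨U, hxU, l, rfl⟩ := exists_ger C x g
  obtain ⟨V, hxV, w, rfl⟩ := exists_ger A x v
  have hx : x ∈ U ⊓ V := ⟨hxU, hxV⟩
  rw [← ger_res C (inf_le_left : U ⊓ V ≤ U) x hx l, ← ger_res A (inf_le_right : U ⊓ V ≤ V) x hx w, ins_ger]
  refine (ger_map (((DCoh.tensorBi (X := X)).obj C).map φ) x hx _).trans ?_
  rw [KFlatLib.tensorBi_map₂_shTm, ← ins_ger C B x hx]
  exact congrArg (ins C B x _) (ger_map φ x hx _).symm

theorem mem_smul_top_iff {R : Type u} [CommRing R] {A B : Type u} [AddCommGroup A] [Module R A] [AddCommGroup B]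
    [Module R B] (f : A →ₗ[R] B) (hf : Function.Bijective f) (I : Ideal R) (v : A) :
    v ∈ I • (⊤ : Submodule R A) ↔ f v ∈ I • (⊤ : Submodule R B) := by
  have h : (I • (⊤ : Submodule R A)).map f = I • (⊤ : Submodule R B) := by
    rw [Submodule.map_smul'', Submodule.map_top, LinearMap.range_eq_top.2 hf.2]
  rw [← h, Submodule.mem_map]
  exact ⟨fun hv => ⟨v, hv, rfl⟩, fun ⟨w, hw, hwv⟩ => hf.1 hwv ▸ hw⟩

/-- The element of degree zero cohomology of a map from the structure sheaf. -/
def hom0 {Z : X.Modules} : (Coh.structureModule X ⟶ Z) ≃ QCohLib.HU ((QCohLib.toAbF X).obj Z) 0 ⊤ :=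
  (KFlatLib.unitSecEquiv Z).trans (QCohLib.h0 (F := (QCohLib.toAbF X).obj Z) (U := (⊤ : X.Opens))).symm.toEquiv

theorem hom0_comp {Z Z' : X.Modules} (φ : Coh.structureModule X ⟶ Z) (ψ : Z ⟶ Z') :
    hom0 (φ ≫ ψ) = hmap ψ 0 (hom0 φ) := by
  apply (QCohLib.h0 (F := (QCohLib.toAbF X).obj Z') (U := (⊤ : X.Opens))).injective
  refine (AddEquiv.apply_symm_apply _ _).trans ?_
  refine Eq.trans ?_ (QCohLib.h0_comp (F := (QCohLib.toAbF X).obj Z) (hom0 φ) ((QCohLib.toAbF X).map ψ)).symm
  refine (KFlatLib.unitSecEquiv_comp φ ψ).trans ?_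
  exact congrArg (ψ.app ⊤) (AddEquiv.apply_symm_apply _ _).symm

theorem hom0_zero {Z : X.Modules} : hom0 (0 : Coh.structureModule X ⟶ Z) = 0 := by
  rw [show (0 : Coh.structureModule X ⟶ Z) = (0 : Coh.structureModule X ⟶ Z) ≫ (0 : Z ⟶ Z) from comp_zero.symm,
    hom0_comp, hmap_zero_hom]

variable (k : Type u) [Field k] [X.Over (Spec (CommRingCat.of k))] [IsProper (X ↘ Spec (CommRingCat.of k))]
  {L : X.Modules} (hL : CohB1.IsAmple L) (s : Coh.structureModule X ⟶ L)

include k

/-- Pro-zero kernels for the quotients of an arbitrary coherent module by the powers of the ideal. -/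
theorem proZero (hL : CohB1.IsAmple L) {G : X.Modules} (hG : Coh.IsCoh G) {Q : ℕ → X.Modules} (p : ∀ m, G ⟶ Q m)
    [∀ m, Epi (p m)] (t : ∀ m, Q (m + 1) ⟶ Q m) (hpt : ∀ m, p (m + 1) ≫ t m = p m)
    (hker : ∀ (m : ℕ) (x : X) (v : stk G x), FLI.sMap (p m) x v = 0 ↔
      v ∈ IntMult.stalkIdeal ((PicF2.zeroScheme L s) ^ (m + 1)) x • (⊤ : Submodule (X.presheaf.stalk x) (stk G x)))
    (n : ℕ) (hd : ∀ x : X, IsClosed ({x} : Set X) → x ∉ ((PicF2.zeroScheme L s).support : Set X) →
      ((n + 1 : ℕ) : ℕ∞) ≤ LocCoh.depth (X.presheaf.stalk x) (G.presheaf.stalk x)) (a : ℕ) :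
    ∃ (b : ℕ) (h : a ≤ b), ∀ j ≤ n, ZMap (kincl p t hpt h) j := by
  haveI : IsNoetherian X := CurvLib.isNoetherian k (X := X)
  obtain ⟨M, σ, e, hM, he, hσ, hK⟩ := exists_tower (k := k) hL s
  obtain ⟨h₁, h₂⟩ := criteria p hM he hσ hker
  exact proZero_of_kill p hpt hM hG n (hK G hG (n + 1) hd) h₁ h₂ a

/-- Homomorphisms out of untwisted free modules into the formal completion. -/
theorem homToFormalBijective_untwist (hL : CohB1.IsAmple L)
    (hd : ∀ x : X, IsClosed ({x} : Set X) → x ∉ ((PicF2.zeroScheme L s).support : Set X) →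
      (2 : ℕ∞) ≤ LocCoh.depth (X.presheaf.stalk x) (X.presheaf.stalk x))
    {C A : X.Modules} (hC : PicF.IsInvertible C) (vC : CohB1.tensorMod C A ≅ Coh.structureModule X) (p : ℕ) :
    Lef.HomToFormalBijective (PicF2.zeroScheme L s) (CohB1.tensorMod A (FlatMod.freeMod X p)) := by
  haveI : IsNoetherian X := CurvLib.isNoetherian k (X := X)
  let I := PicF2.zeroScheme L s
  let T := CurvLib.tensorLeft' C
  haveI hTe : T.IsEquivalence := VBP1Lib.isEquivalence_tensor vC
  let e : T.obj (CohB1.tensorMod A (FlatMod.freeMod X p)) ≅ FlatMod.freeMod X p :=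
    (SerreVanLib.tensorAssoc C A (FlatMod.freeMod X p)).symm ≪≫ HilbPolyLib.congrLeft vC _ ≪≫
      KFlatLib.tensUnitIso _
  let G := T.obj (Coh.structureModule X)
  let Q : ℕ → X.Modules := fun m => T.obj (ClSub.quotMod (I ^ (m + 1)))
  let P : ∀ m, G ⟶ Q m := fun m => T.map (ClSub.toSubscheme (I ^ (m + 1)))
  let t : ∀ m, Q (m + 1) ⟶ Q m := fun m => T.map (Lef.quotMap (Lef.pow_succ_le I m))
  have hpt : ∀ m, P (m + 1) ≫ t m = P m := fun m => by
    simp only [P, t, ← Functor.map_comp, LefAlgzLib.toSubscheme_quotMap]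
  haveI : ∀ m, Epi (P m) := fun m => by
    haveI : Epi (ClSub.toSubscheme (I ^ (m + 1))) := CurvLib.epi_toSubscheme _
    exact T.map_epi _
  have hker : ∀ (m : ℕ) (x : X) (v : stk G x), FLI.sMap (P m) x v = 0 ↔
      v ∈ IntMult.stalkIdeal (I ^ (m + 1)) x • (⊤ : Submodule (X.presheaf.stalk x) (stk G x)) := by
    intro m x v
    obtain ⟨g, hg⟩ := exists_gen hC x
    have hb : ∀ N : X.Modules, Function.Bijective (ins C N x g) := fun N => bijective_ins C N x g hg
    obtain ⟨w, rfl⟩ := (hb _).2 v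
    rw [← mem_smul_top_iff _ (hb _), ← mem_ker_toSub_iff, show P m = ((DCoh.tensorBi (X := X)).obj C).map
      (ClSub.toSubscheme (I ^ (m + 1))) from rfl, sMap_map₂_ins]
    exact ⟨fun h => (hb _).1 (h.trans (map_zero _).symm), fun h => (congrArg _ h).trans (map_zero _)⟩
  have hG : Coh.IsCoh G :=
    QCohLib.isCoh_of_iso (PicPnLib.unitRight C).symm (CurvLib.isCoh_of_isInvertible hC)
  have hdG : ∀ x : X, IsClosed ({x} : Set X) → x ∉ (I.support : Set X) →
      ((1 + 1 : ℕ) : ℕ∞) ≤ LocCoh.depth (X.presheaf.stalk x) (G.presheaf.stalk x) := fun x hx hxI => by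
    obtain ⟨g, hg⟩ := exists_gen hC x
    obtain ⟨o⟩ := RefHullLib.nonempty_stalk_unit X x
    let ee := o.trans (LinearEquiv.ofBijective _ (bijective_ins C (Coh.structureModule X) x g hg))
    exact (hd x hx hxI).trans_eq (CommAlgDim.depth_congr ee)
  obtain ⟨hinj, hsur⟩ := limit_of_proZero P hpt 1 (proZero k s hL hG P t hpt hker 1 hdG) 0
  let comp : ∀ {Z : X.Modules}, (CohB1.tensorMod A (FlatMod.freeMod X p) ⟶ Z) → Fin p →
      (Coh.structureModule X ⟶ T.obj Z) := fun {Z} φ i =>
    Sigma.ι (fun _ : Fin p => Coh.structureModule X) i ≫ e.inv ≫ T.map φ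
  have hext : ∀ {Z : X.Modules} (φ ψ : CohB1.tensorMod A (FlatMod.freeMod X p) ⟶ Z),
      (∀ i, comp φ i = comp ψ i) → φ = ψ := fun φ ψ h =>
    T.map_injective ((cancel_epi e.inv).1 (Sigma.hom_ext (f := fun _ : Fin p => Coh.structureModule X) _ _ h))
  have hcomp : ∀ {Z Z' : X.Modules} (φ : CohB1.tensorMod A (FlatMod.freeMod X p) ⟶ Z) (ψ : Z ⟶ Z') (i : Fin p),
      comp (φ ≫ ψ) i = comp φ i ≫ T.map ψ := fun φ ψ i => by simp [comp]
  refine ⟨fun φ ψ h => hext _ _ fun i => ?_, fun y hy => ?_⟩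
  · refine hom0.injective (sub_eq_zero.1 (hinj (Nat.zero_le 1) _ fun m => ?_))
    rw [hmap_sub, ← hom0_comp, ← hom0_comp, show comp φ i ≫ P m = comp (φ ≫ ClSub.toSubscheme (I ^ (m + 1))) i from
      (hcomp _ _ i).symm, show comp ψ i ≫ P m = comp (ψ ≫ ClSub.toSubscheme (I ^ (m + 1))) i from (hcomp _ _ i).symm,
      h m, sub_self]
  · have hlift : ∀ i, ∃ z, ∀ m, hmap (P m) 0 z = hom0 (comp (y m) i) := fun i =>
      hsur Nat.one_pos (fun m => hom0 (comp (y m) i)) fun m => by
        rw [← hom0_comp]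
        show hom0 (comp (y (m + 1)) i ≫ T.map _) = _
        rw [← hcomp, hy m]
    choose z hz using hlift
    let Φ : FlatMod.freeMod X p ⟶ G := Sigma.desc fun i => hom0.symm (z i)
    obtain ⟨φ, hφ⟩ := T.map_surjective (e.hom ≫ Φ)
    refine ⟨φ, fun m => hext _ _ fun i => hom0.injective ?_⟩
    rw [hcomp, ← hz i m, hom0_comp]
    refine congrArg (hmap (P m) 0) ?_
    show hom0 (Sigma.ι (fun _ : Fin p => Coh.structureModule X) i ≫ e.inv ≫ T.map φ) = _
    rw [hφ, Iso.inv_hom_id_assoc]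
    simp [Φ]
    exact Equiv.apply_symm_apply _ _

/-- Homomorphisms from coherent modules into the formal completion. -/
theorem homToFormalBijective_coh (hL : CohB1.IsAmple L)
    (hd : ∀ x : X, IsClosed ({x} : Set X) → x ∉ ((PicF2.zeroScheme L s).support : Set X) →
      (2 : ℕ∞) ≤ LocCoh.depth (X.presheaf.stalk x) (X.presheaf.stalk x))
    {K : X.Modules} (hK : Coh.IsCoh K) : Lef.HomToFormalBijective (PicF2.zeroScheme L s) K := by
  haveI : IsNoetherian X := CurvLib.isNoetherian k (X := X)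
  obtain ⟨C, A, hC, vC, p, π, hπ⟩ := ProjLefLib.exists_cover hL K hK
  haveI := hπ
  have hV : Coh.IsCoh (CohB1.tensorMod A (FlatMod.freeMod X p)) := by
    have hA : PicF.IsInvertible A := CohCmpLib.isInvertible_of_inverse' hC vC
    exact QCohLib.isCoh_of_iso (KFlatLib.tensSwap A (FlatMod.freeMod X p)) (SerreVanLib.isCoh_tensor
      ⟨CurvLib.isQCoh_freeMod X p, CurvLib.isFT_freeMod X p⟩ hA)
  obtain ⟨C', A', hC', vC', q, ρ, hρ⟩ := ProjLefLib.exists_cover hL (kernel π) (QCohLib.isCoh_kernel π hV hK.1)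
  haveI := hρ
  exact ProjLefLib.homToFormalBijective_of_epi (homToFormalBijective_untwist k s hL hd hC vC p) π ρ
    (homToFormalBijective_untwist k s hL hd hC' vC' q)

/-- The points outside a neighbourhood of the zero scheme are closed. -/
theorem isClosed_of_notMem_nhd (hL : CohB1.IsAmple L) {U : X.Opens}
    (hU : ((PicF2.zeroScheme L s).support : Set X) ⊆ (U : Set X)) (x : X) (hx : x ∉ U) : IsClosed ({x} : Set X) := by
  let J := Scheme.IdealSheafData.vanishingIdeal ⟨(U : Set X)ᶜ, U.isOpen.isClosed_compl⟩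
  have hr : Set.range J.subschemeι = (U : Set X)ᶜ := by
    rw [Scheme.IdealSheafData.range_subschemeι, Scheme.IdealSheafData.coe_support_vanishingIdeal]
    rfl
  let W := J.subscheme
  have hP : CohB1.IsAmple (pb J.subschemeι L) := AmpleDevLib.isAmple_pb J.subschemeι hL.1 hL
  haveI : IsNoetherian X := CurvLib.isNoetherian k (X := X)
  haveI : IsProper (J.subschemeι ≫ (X ↘ Spec (CommRingCat.of k))) := inferInstance
  haveI : IsIso (SecDivLib.pbSec J.subschemeι s) := by
    refine TwistLib.isIso_of_gen _ fun w => ⟨⊤, trivial,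
      (show Γ(Coh.structureModule W, (⊤ : W.Opens)) from (1 : Γ(W, ⊤))), isGen_oneAt w, ?_⟩
    have hw : w ∉ (PicF2.zeroScheme (pb J.subschemeι L) (SecDivLib.pbSec J.subschemeι s)).support := fun hw => by
      rw [SecDivLib.zeroScheme_pbSec J.subschemeι hL.1 s, Scheme.IdealSheafData.support_comap] at hw
      exact (hr.le ⟨w, rfl⟩) (hU hw)
    rw [SurfExtLib.mem_support_zeroScheme hP.1] at hw
    obtain ⟨γ, hγ⟩ := exists_gen hP.1 w
    obtain ⟨a, ha⟩ := hγ.2 (FLI.sMap (SecDivLib.pbSec J.subschemeι s) w (SurfExtLib.oneAt w))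
    have hau : IsUnit a := by
      by_contra hn
      refine hw ?_
      rw [← ha]
      exact Submodule.smul_mem_smul ((IsLocalRing.mem_maximalIdeal _).2 hn) trivial
    show Function.Bijective fun c : W.presheaf.stalk w => c •
      ger (pb J.subschemeι L) w (U := ⊤) trivial _
    rw [← ger_map (SecDivLib.pbSec J.subschemeι s) w (U := ⊤) trivial _,
      show (fun c : W.presheaf.stalk w => c • FLI.sMap (SecDivLib.pbSec J.subschemeι s) w (SurfExtLib.oneAt w)) =
        fun c => (c * a) • γ from funext fun c => by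
          rw [← ha]
          exact (mul_smul c a γ).symm]
    exact hγ.comp ⟨fun c d h => hau.mul_right_cancel h, fun c => ⟨c * ↑hau.unit⁻¹, by simp [mul_assoc]⟩⟩
  let i : pb J.subschemeι L ≅ Coh.structureModule W := (asIso (SecDivLib.pbSec J.subschemeι s)).symm
  haveI := AVAmpleLib.isFinite_of_ample_one (J.subschemeι ≫ (X ↘ Spec (CommRingCat.of k)))
    (AmpleDevLib.isAmple_of_iso hP.1 (HilbPolyLib.isInvertible_of_iso i hP.1) i hP)
  haveI : DiscreteTopology W := by
    let g := J.subschemeι ≫ (X ↘ Spec (CommRingCat.of k))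
    rw [← isDiscrete_univ_iff, show (Set.univ : Set W) = g ⁻¹' {g.base (Classical.choice (α := W) (by
      obtain ⟨z, -⟩ : x ∈ Set.range J.subschemeι := hr.ge hx
      exact ⟨z⟩))} from Set.ext fun w => iff_of_true trivial (Subsingleton.elim (g w) _)]
    exact g.isDiscrete_preimage_singleton _
  obtain ⟨z, rfl⟩ : x ∈ Set.range J.subschemeι := hr.ge hx
  simpa using J.subschemeι.isClosedEmbedding.isClosedMap _ (isClosed_discrete ({z} : Set W))

/-- **The Lefschetz condition** when `depth > 1` at closed points off the zero scheme. -/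
theorem lefCond_of_closed (hL : CohB1.IsAmple L)
    (hd : ∀ x : X, IsClosed ({x} : Set X) → x ∉ ((PicF2.zeroScheme L s).support : Set X) →
      (2 : ℕ∞) ≤ LocCoh.depth (X.presheaf.stalk x) (X.presheaf.stalk x)) :
    Lef.LefCond X (PicF2.zeroScheme L s) := by
  haveI : IsNoetherian X := CurvLib.isNoetherian k (X := X)
  intro U hU D hD
  haveI : Coh.IsQCoh (Coh.structureModule X) := (DevissLib.isCoh_structureModule X).1
  have hDc : Coh.IsCoh D := LocSuppLib.isCoh_of_isFinLocFree hD
  haveI := hDc.1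
  haveI : IsLocallyNoetherian (U : Scheme.{u}) := inferInstance
  obtain ⟨D', -, e, hD', -⟩ := LimHomLib.exists_fp_extension U (NoetherianSpace.isCompact _) (Coh.structureModule X) D
    (QCohLib.isFP_of_isCoh D hDc) 0
  haveI := HilbLCLib.isQCoh_of_isFP hD'
  exact ProjLefLib.homToFormalBijective_restrict U _ hU
    (ProjLefLib.isIso_unitToPush_ι U fun x hx => hd x (isClosed_of_notMem_nhd k s hL hU x hx) fun h => hx (hU h))
    e (homToFormalBijective_coh k s hL hd (ConsLib.isCoh_of_isFP hD'))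

/-- **The Lefschetz condition** when `depth + dim > 1` off the zero scheme. -/
theorem lefCond_of_depth (hL : CohB1.IsAmple L)
    (hd : ∀ x : X, x ∉ ((PicF2.zeroScheme L s).support : Set X) →
      (1 : WithBot ℕ∞) < (LocCoh.depth (X.presheaf.stalk x) (X.presheaf.stalk x) : WithBot ℕ∞) +
        topologicalKrullDim ↥(closure ({x} : Set X))) :
    Lef.LefCond X (PicF2.zeroScheme L s) := by
  refine lefCond_of_closed k s hL fun x hx hxs => ?_
  have h := hd x hxs
  haveI : Subsingleton ↥(closure ({x} : Set X)) := by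
    rw [hx.closure_eq]
    infer_instance
  haveI : Nonempty ↥(closure ({x} : Set X)) := ⟨⟨x, subset_closure rfl⟩⟩
  have h' := h.trans_le (add_le_add_right (topologicalKrullDim_zero_of_discreteTopology ↥(closure ({x} : Set X))) _)
  rw [add_zero] at h'
  exact Order.add_one_le_of_lt (by exact_mod_cast h')

end ProVanLib
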