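import Groth.Agent.ProVanLib.Lift
import Groth.Agent.FEtLefLib.Compl
import Groth.Agent.IntTensorLib.Length
import Groth.Agent.LefAlgzLib.Hom

/-!
# From pro-vanishing to the formal limit
-/

set_option autoImplicit false
set_option linter.unusedSectionVars false
set_option linter.style.haveILetI false
set_option maxHeartbeats 1000000
set_option backward.isDefEq.respectTransparency false
set_option backward.isDefEq.respectTransparency.types false
universe u

open CategoryTheory CategoryTheory.Limits CategoryTheory.Abelian AlgebraicGeometry TopologicalSpace Opposite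
open ProjFormLib (ger ger_res ger_map exists_ger res)
open KFlatLib (pf pb puSec)
open CohCmpLib (stk)
open SurfExtLib (oneAt)
open scoped TensorProduct

noncomputable section

namespace ProVanLib

variable {X : Scheme.{u}}

/-- The stalk kernel of the unit along a closed immersion. -/
theorem mem_ker_unit_iff {Z : Scheme.{u}} (ι : Z ⟶ X) [IsClosedImmersion ι] (F : X.Modules) (x : X) (v : stk F x) :
    FLI.sMap ((Scheme.Modules.pullbackPushforwardAdjunction ι).unit.app F) x v = 0 ↔
      v ∈ IntMult.stalkIdeal ι.ker x • (⊤ : Submodule (X.presheaf.stalk x) (stk F x)) := by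
  by_cases hx : x ∈ Set.range ⇑ι
  · obtain ⟨z, rfl⟩ := hx
    let A := X.presheaf.stalk (ι z)
    let B := Z.presheaf.stalk z
    letI : Algebra A B := (ι.stalkMap z).hom.toAlgebra
    have hsur : Function.Surjective (algebraMap A B) := ι.stalkMap_surjective z
    have hker : RingHom.ker (algebraMap A B) = IntMult.stalkIdeal ι.ker (ι z) :=
      IntTensorLib.ker_stalkMap_eq_stalkIdeal ι z
    let η := (Scheme.Modules.pullbackPushforwardAdjunction ι).unit.app F
    let e := ((KFlatLib.stalkPullIso ι z).app F).toLinearEquiv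
    have key : ∀ w : stk F (ι z), ProjClosedImmLib.pS ι z (pb ι F) (FLI.sMap η (ι z) w) =
        e.symm ((1 : B) ⊗ₜ[A] w) := by
      intro w
      obtain ⟨U, hU, s, rfl⟩ := exists_ger F (ι z) w
      refine (congrArg (ProjClosedImmLib.pS ι z (pb ι F)) (ger_map η (ι z) hU s)).trans ?_
      refine (ProjClosedImmLib.pS_germ ι z (pb ι F) hU _).trans ?_
      exact (KFlatLib.stalkPullInv_germ ι F z hU s).symm
    let φ : (A ⧸ RingHom.ker (algebraMap A B)) ≃ₐ[A] B :=
      Ideal.quotientKerAlgEquivOfSurjective (f := Algebra.ofId A B) hsur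
    let ψ : (B ⊗[A] stk F (ι z)) ≃ₗ[A] stk F (ι z) ⧸ (RingHom.ker (algebraMap A B) • (⊤ : Submodule A (stk F (ι z)))) :=
      (TensorProduct.congr φ.symm.toLinearEquiv (LinearEquiv.refl A (stk F (ι z)))).trans
        (TensorProduct.quotTensorEquivQuotSMul _ _)
    have hψ : ψ ((1 : B) ⊗ₜ[A] v) = Submodule.Quotient.mk v := by
      show TensorProduct.quotTensorEquivQuotSMul _ _ (φ.symm 1 ⊗ₜ[A] v) = _
      rw [map_one]
      exact TensorProduct.quotTensorEquivQuotSMul_mk_one_tmul _ v
    rw [← hker, ← Submodule.Quotient.mk_eq_zero, ← hψ, LinearEquiv.map_eq_zero_iff,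
      ← (ProjClosedImmLib.pS_bijective ι z (pb ι F)).injective.eq_iff, map_zero, key]
    exact e.symm.map_eq_zero_iff
  · have h1 : IntMult.stalkIdeal ι.ker x = ⊤ := KoszIntLib.stalkIdeal_eq_top _ (by
      rwa [Scheme.Hom.support_ker, ι.isClosedEmbedding.isClosed_range.closure_eq])
    haveI : Subsingleton (stk ((Coh.push ι).obj ((Scheme.Modules.pullback ι).obj F)) x) :=
      not_not.mp fun h => hx (DevissLib.support_push_subset ι ((Scheme.Modules.pullback ι).obj F) h)
    rw [h1, Submodule.top_smul]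
    exact iff_of_true (Subsingleton.elim (α := stk ((Coh.push ι).obj ((Scheme.Modules.pullback ι).obj F)) x) _ _) trivial

theorem mem_ker_toSub_iff (J : X.IdealSheafData) (x : X) (v : stk (Coh.structureModule X) x) :
    FLI.sMap (ClSub.toSubscheme J) x v = 0 ↔
      v ∈ IntMult.stalkIdeal J x • (⊤ : Submodule (X.presheaf.stalk x) (stk (Coh.structureModule X) x)) := by
  have h := FEtLefLib.unit_pullUnit J.subschemeι
  have hu : ClSub.toSubscheme J = ClSub.unitToPush J.subschemeι := rfl
  rw [hu, ← h, FLI.sMap_comp]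
  have hinj : Function.Injective (FLI.sMap ((Scheme.Modules.pushforward J.subschemeι).map
      (KFlatLib.pullUnitIso J.subschemeι).hom) x) := by
    haveI : Mono ((Scheme.Modules.pushforward J.subschemeι).map (KFlatLib.pullUnitIso J.subschemeι).hom) :=
      inferInstance
    exact FLI.sMap_injective _ x
  refine Iff.trans ⟨fun h => hinj (h.trans (map_zero _).symm), fun h => (congrArg _ h).trans (map_zero _)⟩ ?_
  refine (mem_ker_unit_iff J.subschemeι (Coh.structureModule X) x v).trans ?_
  rw [J.ker_subschemeι]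

variable {G : X.Modules} {Q : ℕ → X.Modules} (p : ∀ m, G ⟶ Q m) (t : ∀ m, Q (m + 1) ⟶ Q m)
  (hpt : ∀ m, p (m + 1) ≫ t m = p m)

include hpt in
theorem comp_eq_zero_le {a b : ℕ} (h : a ≤ b) {K : X.Modules} {i : K ⟶ G} (hi : i ≫ p b = 0) : i ≫ p a = 0 := by
  induction b, h using Nat.le_induction with
  | base => exact hi
  | succ b _ ih => exact ih (by rw [← hpt b, ← Category.assoc, hi, zero_comp])

/-- The inclusion of kernels. -/
def kincl {a b : ℕ} (h : a ≤ b) : kernel (p b) ⟶ kernel (p a) :=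
  kernel.lift (p a) (kernel.ι (p b)) (comp_eq_zero_le p t hpt h (kernel.condition (p b)))

/-- The transition maps. -/
def trans' {a b : ℕ} (h : a ≤ b) : Q b ⟶ Q a :=
  (Functor.ofOpSequence t).map (homOfLE h).op

include hpt in
theorem p_trans' {a b : ℕ} (h : a ≤ b) : p b ≫ trans' t h = p a := by
  induction b, h using Nat.le_induction with
  | base => exact (congrArg (p a ≫ ·) ((Functor.ofOpSequence t).map_id _)).trans (Category.comp_id _)
  | succ b hab ih =>
    rw [show trans' t (hab.trans (Nat.le_succ b)) = t b ≫ trans' t hab from by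
      rw [trans', trans', ← Functor.ofOpSequence_map_homOfLE_succ t b, ← Functor.map_comp]
      rfl, ← Category.assoc, hpt, ih]

variable {t}

theorem trans'_eq {a : ℕ} {j : ℕ} (y : ∀ m, QCohLib.HU ((QCohLib.toAbF X).obj (Q m)) j ⊤)
    (hy : ∀ m, hmap (t m) j (y (m + 1)) = y m) : ∀ {b : ℕ} (h : a ≤ b), hmap (trans' t h) j (y b) = y a := by
  intro b h
  induction b, h using Nat.le_induction with
  | base => exact (congrArg (fun φ => hmap φ j (y a)) ((Functor.ofOpSequence t).map_id _)).trans (hmap_id j _)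
  | succ b hab ih =>
    rw [show trans' t (hab.trans (Nat.le_succ b)) = t b ≫ trans' t hab from by
      rw [trans', trans', ← Functor.ofOpSequence_map_homOfLE_succ t b, ← Functor.map_comp]
      rfl, hmap_comp, hy, ih]

variable [∀ m, Epi (p m)]

theorem shortExact_ker (m : ℕ) : (ShortComplex.mk (kernel.ι (p m)) (p m) (kernel.condition _)).ShortExact :=
  ShortComplex.ShortExact.mk (ShortComplex.exact_kernel (p m))

include hpt in
/-- Pro-zero kernels give the formal limit. -/
theorem limit_of_proZero (n : ℕ) (hz : ∀ a : ℕ, ∃ (b : ℕ) (h : a ≤ b), ∀ j ≤ n, ZMap (kincl p t hpt h) j) (j : ℕ) :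
    (j ≤ n → ∀ x, (∀ m, hmap (p m) j x = 0) → x = 0) ∧
    (j < n → ∀ y : (∀ m, QCohLib.HU ((QCohLib.toAbF X).obj (Q m)) j ⊤),
      (∀ m, hmap (t m) j (y (m + 1)) = y m) → ∃ x, ∀ m, hmap (p m) j x = y m) := by
  have hlift : ∀ {a b : ℕ} (h : a ≤ b), kincl p t hpt h ≫ kernel.ι (p a) = kernel.ι (p b) := fun h =>
    kernel.lift_ι _ _ _
  have hkill : j ≤ n → ∀ a b : ℕ, ∀ h : a ≤ b, (∀ i ≤ n, ZMap (kincl p t hpt h) i) →
      ∀ z, hmap (kernel.ι (p b)) j z = 0 := fun hj a b h hz z => by
    rw [← hlift h, hmap_comp, (hz j hj).out, hmap_zero]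
  refine ⟨fun hj x hx => ?_, fun hj y hy => ?_⟩
  · obtain ⟨b, hb, hzb⟩ := hz 0
    obtain ⟨z, rfl⟩ := exists_of_g_zero (shortExact_ker p b) j (hx b)
    exact hkill hj 0 b hb hzb z
  · have hx : ∀ a, ∃ x, hmap (p a) j x = y a := fun a => by
      obtain ⟨b, hab, hzb⟩ := hz a
      refine exists_of_delta_zero (shortExact_ker p a) j ?_
      let φ : ShortComplex.mk (kernel.ι (p b)) (p b) (kernel.condition _) ⟶
          ShortComplex.mk (kernel.ι (p a)) (p a) (kernel.condition _) :=
        ShortComplex.homMk (kincl p t hpt hab) (𝟙 _) (trans' t hab)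
          ((hlift hab).trans (Category.comp_id _).symm) ((Category.id_comp _).trans (p_trans' p t hpt hab).symm)
      have h1 := delta_natural (shortExact_ker p b) (shortExact_ker p a) φ j (y b)
      rw [show φ.τ₃ = trans' t hab from rfl, trans'_eq y hy hab, show φ.τ₁ = kincl p t hpt hab from rfl,
        (hzb (j + 1) hj).out] at h1
      exact h1
    choose x hx using hx
    obtain ⟨M, hM, hzM⟩ := hz 0
    have huniq : ∀ m, M ≤ m → ∀ u v, hmap (p m) j u = hmap (p m) j v → u = v := fun m hm u v huv => by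
      obtain ⟨z, hz'⟩ := exists_of_g_zero (shortExact_ker p m) j (x := u - v) (by rw [hmap_sub, huv, sub_self])
      have h2 : hmap (kernel.ι (p m)) j z = 0 := by
        rw [← hlift hm, hmap_comp]
        exact hkill hj.le 0 M hM hzM _
      exact sub_eq_zero.1 (hz'.symm.trans h2)
    refine ⟨x M, fun m => ?_⟩
    have h1 : hmap (p M) j (x (max m M)) = y M := by
      rw [← p_trans' p t hpt (le_max_right m M), hmap_comp, hx, trans'_eq y hy]
    rw [huniq M le_rfl (x M) (x (max m M)) ((hx M).trans h1.symm), ← p_trans' p t hpt (le_max_left m M), hmap_comp, hx,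
      trans'_eq y hy]

variable {M : X.Modules} {σ : M ⟶ Coh.structureModule X}

/-- Pro-zero kernels from pro-zero tower cohomology. -/
theorem proZero_of_kill [IsNoetherian X] (hM : PicF.IsInvertible M) (hG : Coh.IsCoh G) (n : ℕ)
    (hK : Kill σ (n + 1) G) (h₁ : ∀ a : ℕ, ∃ a' : ℕ, ev σ G a' ≫ p a = 0)
    (h₂ : ∀ a : ℕ, ∃ b : ℕ, ∀ b' : ℕ, b ≤ b' → kernel.ι (p b') ≫ cokernel.π (ev σ G a) = 0) (a : ℕ) :
    ∃ (b : ℕ) (h : a ≤ b), ∀ j ≤ n, ZMap (kincl p t hpt h) j := by
  obtain ⟨a', ha'⟩ := h₁ a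
  obtain ⟨a'', haa, hz⟩ := hK.out a'
  obtain ⟨c, hc⟩ := exists_ker_tm_eq_zero (σ := σ) hM G hG
  obtain ⟨b, hb⟩ := h₂ (a'' + c)
  refine ⟨max a b, le_max_left a b, fun j hj => ?_⟩
  let u := ev σ G (a'' + c)
  haveI : Epi (Abelian.factorThruImage u) := inferInstance
  have hker : kernel.ι (Abelian.factorThruImage u) ≫ tm σ G (Nat.le_add_right a'' c) = 0 := by
    have h3 : kernel.ι (Abelian.factorThruImage u) ≫ u = 0 := by
      refine (congrArg (kernel.ι (Abelian.factorThruImage u) ≫ ·) (Abelian.image.fac u).symm).trans ?_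
      exact (kernel.condition_assoc _ _).trans zero_comp
    rw [← kernel.lift_ι u _ h3, Category.assoc, hc a'', comp_zero]
  let into : kernel (p (max a b)) ⟶ Abelian.image u :=
    kernel.lift (cokernel.π u) (kernel.ι (p (max a b))) (hb _ (le_max_right a b))
  let back : (En M a').obj G ⟶ kernel (p a) := kernel.lift (p a) (ev σ G a') ha'
  let desc : Abelian.image u ⟶ (En M a'').obj G := Abelian.epiDesc (Abelian.factorThruImage u) _ hker
  have hdesc : desc ≫ ev σ G a'' = Abelian.image.ι u := by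
    rw [← cancel_epi (Abelian.factorThruImage u), ← Category.assoc, Abelian.comp_epiDesc, tm_ev, Abelian.image.fac]
  have key : kincl p t hpt (le_max_left a b) = (into ≫ desc) ≫ tm σ G haa ≫ back := by
    rw [← cancel_mono (kernel.ι (p a))]
    simp only [Category.assoc, kincl, back, kernel.lift_ι, tm_ev, hdesc]
    exact (kernel.lift_ι _ _ _).symm
  rw [key]
  exact ((hz j (by omega)).comp_right).comp_left

/-- Sandwiching criterion on stalks. -/
theorem criteria [IsNoetherian X] (hM : PicF.IsInvertible M) {I : X.IdealSheafData} {e : ℕ} (he : 0 < e)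
    (hσ : Princ σ (I ^ e))
    (hker : ∀ (m : ℕ) (x : X) (v : stk G x), FLI.sMap (p m) x v = 0 ↔
      v ∈ IntMult.stalkIdeal (I ^ (m + 1)) x • (⊤ : Submodule (X.presheaf.stalk x) (stk G x))) :
    (∀ a : ℕ, ∃ a' : ℕ, ev σ G a' ≫ p a = 0) ∧
    (∀ a : ℕ, ∃ b : ℕ, ∀ b' : ℕ, b ≤ b' → kernel.ι (p b') ≫ cokernel.π (ev σ G a) = 0) := by
  refine ⟨fun a => ⟨a + 1, hom_ext_stalk fun x u => ?_⟩, fun a => ⟨e * a, fun b' hb' => hom_ext_stalk fun x u => ?_⟩⟩
  · obtain ⟨g, hg⟩ := exists_gen hM x
    obtain ⟨f, hf⟩ := exists_val σ x g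
    obtain ⟨v, rfl⟩ := (jn_bijective hg G (a + 1)).2 u
    rw [FLI.sMap_zero, FLI.sMap_comp, ev_jn hf, hker]
    refine Submodule.smul_mem_smul ?_ trivial
    have h1 := hσ.out x g f hg hf
    rw [stalkIdeal_pow'] at h1 ⊢
    have h2 : f ^ (a + 1) ∈ (IntMult.stalkIdeal I x ^ e) ^ (a + 1) :=
      Ideal.pow_mem_pow (h1 ▸ Ideal.mem_span_singleton_self f) _
    rw [← pow_mul] at h2
    exact Ideal.pow_le_pow_right (Nat.le_mul_of_pos_left (a + 1) he) h2
  · obtain ⟨g, hg⟩ := exists_gen hM x
    obtain ⟨f, hf⟩ := exists_val σ x g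
    rw [FLI.sMap_zero, FLI.sMap_comp]
    have hv : FLI.sMap (kernel.ι (p b')) x u ∈
        IntMult.stalkIdeal (I ^ (b' + 1)) x • (⊤ : Submodule (X.presheaf.stalk x) (stk G x)) := by
      rw [← hker, ← FLI.sMap_comp, kernel.condition, FLI.sMap_zero]
    have hle : IntMult.stalkIdeal (I ^ (b' + 1)) x ≤ Ideal.span {f ^ a} := by
      have h1 := hσ.out x g f hg hf
      rw [stalkIdeal_pow'] at h1 ⊢
      rw [← Ideal.span_singleton_pow, ← h1, ← pow_mul]
      exact Ideal.pow_le_pow_right (hb'.trans (Nat.le_succ b'))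
    obtain ⟨w, hw⟩ : ∃ w, f ^ a • w = FLI.sMap (kernel.ι (p b')) x u := by
      have := Submodule.smul_mono_left hle hv
      rw [Submodule.ideal_span_singleton_smul] at this
      exact (Submodule.mem_smul_pointwise_iff_exists _ _ _).1 this |>.imp fun w hw => hw.2
    rw [← hw, ← ev_jn hf, ← FLI.sMap_comp, cokernel.condition, FLI.sMap_zero]

end ProVanLib
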