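import Groth.Agent.ProVanLib.Tower
import Groth.Agent.FormalProLib.Proper

/-!
# Pro-vanishing of low cohomology along the tower
-/

set_option autoImplicit false
set_option linter.unusedSectionVars false
set_option linter.style.haveILetI false
set_option maxHeartbeats 1000000
set_option backward.isDefEq.respectTransparency false
set_option backward.isDefEq.respectTransparency.types false
universe u

open CategoryTheory CategoryTheory.Limits CategoryTheory.Abelian AlgebraicGeometry TopologicalSpace Opposite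
open KFlatLib (tens)

noncomputable section

namespace ProVanLib

variable {X : Scheme.{u}}

/-- The map in degree `j` cohomology. -/
def hmap {A B : X.Modules} (φ : A ⟶ B) (j : ℕ) (x : QCohLib.HU ((QCohLib.toAbF X).obj A) j ⊤) :
    QCohLib.HU ((QCohLib.toAbF X).obj B) j ⊤ :=
  x.comp (Ext.mk₀ ((QCohLib.toAbF X).map φ)) (add_zero j)

theorem hmap_comp {A B C : X.Modules} (φ : A ⟶ B) (ψ : B ⟶ C) (j : ℕ) (x : QCohLib.HU ((QCohLib.toAbF X).obj A) j ⊤) :
    hmap (φ ≫ ψ) j x = hmap ψ j (hmap φ j x) := by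
  rw [hmap, hmap, hmap, Functor.map_comp, ← Ext.mk₀_comp_mk₀, Ext.comp_assoc_of_second_deg_zero]

theorem hmap_id {A : X.Modules} (j : ℕ) (x : QCohLib.HU ((QCohLib.toAbF X).obj A) j ⊤) : hmap (𝟙 A) j x = x := by
  rw [hmap, CategoryTheory.Functor.map_id, Ext.comp_mk₀_id]

theorem hmap_zero_hom {A B : X.Modules} (j : ℕ) (x : QCohLib.HU ((QCohLib.toAbF X).obj A) j ⊤) :
    hmap (0 : A ⟶ B) j x = 0 := by
  rw [hmap, Functor.map_zero, Ext.mk₀_zero, Ext.comp_zero]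

theorem hmap_zero {A B : X.Modules} (φ : A ⟶ B) (j : ℕ) : hmap φ j 0 = 0 := by
  rw [hmap, Ext.zero_comp]

theorem hmap_add {A B : X.Modules} (φ : A ⟶ B) (j : ℕ) (x y : QCohLib.HU ((QCohLib.toAbF X).obj A) j ⊤) :
    hmap φ j (x + y) = hmap φ j x + hmap φ j y := Ext.add_comp _ _ _ _

theorem hmap_sub {A B : X.Modules} (φ : A ⟶ B) (j : ℕ) (x y : QCohLib.HU ((QCohLib.toAbF X).obj A) j ⊤) :
    hmap φ j (x - y) = hmap φ j x - hmap φ j y := by
  rw [eq_sub_iff_add_eq, ← hmap_add, sub_add_cancel]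

/-- The map vanishes on cohomology in degree `j`. -/
structure ZMap {A B : X.Modules} (φ : A ⟶ B) (j : ℕ) : Prop where
  out : ∀ x, hmap φ j x = 0

theorem zmap_iff_map {A B : X.Modules} (φ : A ⟶ B) (j : ℕ) :
    ZMap φ j ↔ ∀ x : Coh.HH X A j, Sheaf.H.map ((SheafOfModules.toSheaf X.ringCatSheaf).map φ) j x = 0 := by
  have key : ∀ x : Coh.HH X A j, QCohLib.hEquiv ((QCohLib.toAbF X).obj B) j
      (Sheaf.H.map ((SheafOfModules.toSheaf X.ringCatSheaf).map φ) j x) =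
      hmap φ j (QCohLib.hEquiv ((QCohLib.toAbF X).obj A) j x) := fun x =>
    QCohLib.hEquiv_map ((QCohLib.toAbF X).map φ) j x
  refine ⟨fun h x => (QCohLib.hEquiv ((QCohLib.toAbF X).obj B) j).injective ?_, fun h => ⟨fun x => ?_⟩⟩
  · exact (key x).trans ((h.out _).trans (map_zero _).symm)
  · obtain ⟨y, rfl⟩ := (QCohLib.hEquiv ((QCohLib.toAbF X).obj A) j).surjective x
    exact (key y).symm.trans ((congrArg _ (h y)).trans (map_zero _))

theorem zmap_of_subsingleton {A B : X.Modules} (φ : A ⟶ B) (j : ℕ) (h : Subsingleton (Coh.HH X A j)) : ZMap φ j :=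
  (zmap_iff_map φ j).2 fun x => by rw [Subsingleton.elim x 0, map_zero]

theorem zmap_zero {A B : X.Modules} (j : ℕ) : ZMap (0 : A ⟶ B) j := ⟨fun x => hmap_zero_hom j x⟩

theorem ZMap.comp_left {A B C : X.Modules} {φ : A ⟶ B} {ψ : B ⟶ C} {j : ℕ} (h : ZMap ψ j) : ZMap (φ ≫ ψ) j :=
  ⟨fun x => (hmap_comp φ ψ j x).trans (h.out _)⟩

theorem ZMap.comp_right {A B C : X.Modules} {φ : A ⟶ B} {ψ : B ⟶ C} {j : ℕ} (h : ZMap φ j) : ZMap (φ ≫ ψ) j :=
  ⟨fun x => (hmap_comp φ ψ j x).trans ((congrArg _ (h.out _)).trans (hmap_zero ψ j))⟩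

section Seq

variable {S S' S'' : ShortComplex X.Modules}

/-- The connecting map. -/
def delta (hS : S.ShortExact) (j : ℕ) (z : QCohLib.HU ((QCohLib.toAbF X).obj S.X₃) j ⊤) :
    QCohLib.HU ((QCohLib.toAbF X).obj S.X₁) (j + 1) ⊤ :=
  z.comp (QCohLib.toAbF_shortExact hS).extClass rfl

theorem delta_natural (hS : S.ShortExact) (hS' : S'.ShortExact) (φ : S ⟶ S') (j : ℕ)
    (z : QCohLib.HU ((QCohLib.toAbF X).obj S.X₃) j ⊤) :
    delta hS' j (hmap φ.τ₃ j z) = hmap φ.τ₁ (j + 1) (delta hS j z) :=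
  FormalProLib.comp_extClass_natural (QCohLib.toAbF_shortExact hS) (QCohLib.toAbF_shortExact hS')
    ((QCohLib.toAbF X).mapShortComplex.map φ) rfl z

theorem exists_of_f_zero (hS : S.ShortExact) (j : ℕ) {x : QCohLib.HU ((QCohLib.toAbF X).obj S.X₁) (j + 1) ⊤}
    (h : hmap S.f (j + 1) x = 0) : ∃ z, delta hS j z = x := by
  have hS' : (S.map (QCohLib.toAbF X)).ShortExact := QCohLib.toAbF_shortExact hS
  obtain ⟨z, hz⟩ := Ext.covariant_sequence_exact₁ (QCohLib.zsh ⊤) hS' x h (rfl : j + 1 = j + 1)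
  exact ⟨z, hz⟩

theorem eq_zero_of_f_zero (hS : S.ShortExact) {x : QCohLib.HU ((QCohLib.toAbF X).obj S.X₁) 0 ⊤}
    (h : hmap S.f 0 x = 0) : x = 0 := by
  haveI := (QCohLib.toAbF_shortExact hS).mono_f
  exact Ext.postcomp_mk₀_injective_of_mono (QCohLib.zsh ⊤) (S.map (QCohLib.toAbF X)).f
    (h.trans (hmap_zero S.f 0).symm)

theorem exists_of_g_zero (hS : S.ShortExact) (j : ℕ) {x : QCohLib.HU ((QCohLib.toAbF X).obj S.X₂) j ⊤}
    (h : hmap S.g j x = 0) : ∃ z, hmap S.f j z = x := by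
  have hS' : (S.map (QCohLib.toAbF X)).ShortExact := QCohLib.toAbF_shortExact hS
  obtain ⟨z, hz⟩ := Ext.covariant_sequence_exact₂ (QCohLib.zsh ⊤) hS' x h
  exact ⟨z, hz⟩

theorem exists_of_delta_zero (hS : S.ShortExact) (j : ℕ) {x : QCohLib.HU ((QCohLib.toAbF X).obj S.X₃) j ⊤}
    (h : delta hS j x = 0) : ∃ z, hmap S.g j z = x := by
  have hS' : (S.map (QCohLib.toAbF X)).ShortExact := QCohLib.toAbF_shortExact hS
  obtain ⟨z, hz⟩ := Ext.covariant_sequence_exact₃ (QCohLib.zsh ⊤) hS' x rfl h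
  exact ⟨z, hz⟩

theorem hmap_comm {A B C D : X.Modules} {p : A ⟶ B} {q : B ⟶ D} {r : A ⟶ C} {s : C ⟶ D} (h : p ≫ q = r ≫ s)
    (j : ℕ) (x : QCohLib.HU ((QCohLib.toAbF X).obj A) j ⊤) : hmap q j (hmap p j x) = hmap s j (hmap r j x) := by
  rw [← hmap_comp, ← hmap_comp, h]

theorem zmap_mid (hS' : S'.ShortExact) (φ : S'' ⟶ S') (ψ : S' ⟶ S) {j : ℕ}
    (h₃ : ZMap φ.τ₃ j) (h₁ : ZMap ψ.τ₁ j) : ZMap (φ.τ₂ ≫ ψ.τ₂) j := by
  refine ⟨fun x => ?_⟩
  rw [hmap_comp]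
  obtain ⟨z, hz⟩ := exists_of_g_zero hS' j (x := hmap φ.τ₂ j x) (by rw [hmap_comm φ.comm₂₃, h₃.out])
  rw [← hz, hmap_comm ψ.comm₁₂.symm, h₁.out, hmap_zero]

theorem zmap_left_zero (hS : S.ShortExact) (φ : S' ⟶ S) (h₂ : ZMap φ.τ₂ 0) : ZMap φ.τ₁ 0 :=
  ⟨fun x => eq_zero_of_f_zero hS (by rw [hmap_comm φ.comm₁₂, h₂.out])⟩

theorem zmap_left (hS : S.ShortExact) (hS' : S'.ShortExact) (φ : S'' ⟶ S') (ψ : S' ⟶ S) {j : ℕ}
    (h₂ : ZMap φ.τ₂ (j + 1)) (h₃ : ZMap ψ.τ₃ j) : ZMap (φ.τ₁ ≫ ψ.τ₁) (j + 1) := by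
  refine ⟨fun x => ?_⟩
  rw [hmap_comp]
  obtain ⟨z, hz⟩ := exists_of_f_zero hS' j (x := hmap φ.τ₁ (j + 1) x) (by rw [hmap_comm φ.comm₁₂, h₂.out])
  rw [← hz, ← delta_natural hS' hS, h₃.out, delta, Ext.zero_comp]

theorem zmap_right (hS' : S'.ShortExact) (hS'' : S''.ShortExact) (φ : S'' ⟶ S') (ψ : S' ⟶ S) {j : ℕ}
    (h₁ : ZMap φ.τ₁ (j + 1)) (h₂ : ZMap ψ.τ₂ j) : ZMap (φ.τ₃ ≫ ψ.τ₃) j := by
  refine ⟨fun x => ?_⟩
  rw [hmap_comp]
  obtain ⟨z, hz⟩ := exists_of_delta_zero hS' j (x := hmap φ.τ₃ j x) (by rw [delta_natural hS'' hS', h₁.out])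
  rw [← hz, hmap_comm ψ.comm₂₃.symm, h₂.out, hmap_zero]

end Seq

variable {M : X.Modules} (σ : M ⟶ Coh.structureModule X)

/-- The system `Hʲ(M^n ⊗ G)` is pro-zero for `j < c`. -/
structure Kill (c : ℕ) (G : X.Modules) : Prop where
  out : ∀ a : ℕ, ∃ (b : ℕ) (h : a ≤ b), ∀ j < c, ZMap (tm σ G h) j

variable {σ}

instance additive_En (n : ℕ) : (En M n).Additive := by
  induction n with
  | zero => exact inferInstanceAs (𝟭 X.Modules).Additive
  | succ n ih =>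
    haveI : ((DCoh.tensorBi (X := X)).obj M).Additive := inferInstance
    exact inferInstanceAs (En M n ⋙ _).Additive

theorem shortExact_En (hM : PicF.IsInvertible M) {S : ShortComplex X.Modules} (hS : S.ShortExact) :
    ∀ n : ℕ, (S.map (En M n)).ShortExact := by
  intro n
  induction n with
  | zero => exact hS
  | succ n ih =>
    have h := ProjFormLib.shortExact_tens (ProjKLib.vb_inv hM) ih
    exact ShortComplex.shortExact_of_iso (ShortComplex.isoMk (Iso.refl _) (Iso.refl _) (Iso.refl _)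
      ((Category.id_comp _).trans (Category.comp_id _).symm) ((Category.id_comp _).trans (Category.comp_id _).symm)) h

variable (σ) in
/-- The tower of a short complex. -/
def tmS (S : ShortComplex X.Modules) {a b : ℕ} (h : a ≤ b) : S.map (En M b) ⟶ S.map (En M a) :=
  ShortComplex.homMk (tm σ S.X₁ h) (tm σ S.X₂ h) (tm σ S.X₃ h) (tm_natural σ S.f h).symm (tm_natural σ S.g h).symm

variable {c : ℕ}

theorem Kill.mono {c' : ℕ} {G : X.Modules} (h : Kill σ c G) (hc : c' ≤ c) : Kill σ c' G :=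
  ⟨fun a => by
    obtain ⟨b, hb, h'⟩ := h.out a
    exact ⟨b, hb, fun j hj => h' j (lt_of_lt_of_le hj hc)⟩⟩

theorem Kill.of_iso {G G' : X.Modules} (e : G ≅ G') (h : Kill σ c G) : Kill σ c G' :=
  ⟨fun a => by
    obtain ⟨b, hb, h'⟩ := h.out a
    refine ⟨b, hb, fun j hj => ?_⟩
    have he : tm σ G' hb = (En M b).map e.inv ≫ tm σ G hb ≫ (En M a).map e.hom := by
      rw [← tm_natural σ e.hom hb, ← Category.assoc, ← Functor.map_comp, e.inv_hom_id,
        CategoryTheory.Functor.map_id, Category.id_comp]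
    rw [he]
    exact ((h' j hj).comp_right).comp_left⟩

theorem Kill.mid (hM : PicF.IsInvertible M) {S : ShortComplex X.Modules} (hS : S.ShortExact)
    (h₁ : Kill σ c S.X₁) (h₃ : Kill σ c S.X₃) : Kill σ c S.X₂ := ⟨fun a => by
  obtain ⟨b, hab, k₁⟩ := h₁.out a
  obtain ⟨b', hbb, k₃⟩ := h₃.out b
  refine ⟨b', hab.trans hbb, fun j hj => ?_⟩
  rw [← tm_comp σ S.X₂ hab hbb]
  exact zmap_mid (shortExact_En hM hS b) (tmS σ S hbb) (tmS σ S hab) (k₃ j hj) (k₁ j hj)⟩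

theorem Kill.left (hM : PicF.IsInvertible M) {S : ShortComplex X.Modules} (hS : S.ShortExact)
    (h₂ : Kill σ (c + 1) S.X₂) (h₃ : Kill σ c S.X₃) : Kill σ (c + 1) S.X₁ := ⟨fun a => by
  obtain ⟨b, hab, k₃⟩ := h₃.out a
  obtain ⟨b', hbb, k₂⟩ := h₂.out b
  refine ⟨b', hab.trans hbb, fun j hj => ?_⟩
  rw [← tm_comp σ S.X₁ hab hbb]
  rcases j with _ | j
  · exact (zmap_left_zero (shortExact_En hM hS b) (tmS σ S hbb) (k₂ 0 hj)).comp_right
  · exact zmap_left (shortExact_En hM hS a) (shortExact_En hM hS b) (tmS σ S hbb) (tmS σ S hab) (k₂ _ hj)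
      (k₃ j (by omega))⟩

theorem Kill.right (hM : PicF.IsInvertible M) {S : ShortComplex X.Modules} (hS : S.ShortExact)
    (h₁ : Kill σ (c + 1) S.X₁) (h₂ : Kill σ c S.X₂) : Kill σ c S.X₃ := ⟨fun a => by
  obtain ⟨b, hab, k₂⟩ := h₂.out a
  obtain ⟨b', hbb, k₁⟩ := h₁.out b
  refine ⟨b', hab.trans hbb, fun j hj => ?_⟩
  rw [← tm_comp σ S.X₃ hab hbb]
  exact zmap_right (shortExact_En hM hS b) (shortExact_En hM hS b') (tmS σ S hbb) (tmS σ S hab)
    (k₁ _ (by omega)) (k₂ j hj)⟩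

/-- Modules supported where `σ` vanishes are pro-zero. -/
theorem Kill.of_supported [IsNoetherian X] (hM : PicF.IsInvertible M) {G : X.Modules} (hG : Coh.IsCoh G)
    (hs : ∀ y : X, UnitAt σ y → Subsingleton (CohCmpLib.stk G y)) (c : ℕ) : Kill σ c G := ⟨fun a => by
  obtain ⟨d, hd⟩ := exists_tm_eq_zero hM G hG hs
  exact ⟨a + d, Nat.le_add_right a d, fun j _ => by rw [hd a]; exact zmap_zero j⟩⟩

/-- Invariance under maps that are isomorphisms where `σ` is invertible. -/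
theorem Kill.of_iso_off [IsNoetherian X] (hM : PicF.IsInvertible M) {A B : X.Modules} (hA : Coh.IsCoh A)
    (hB : Coh.IsCoh B) (φ : A ⟶ B) (hinj : ∀ y : X, UnitAt σ y → Function.Injective (FLI.sMap φ y))
    (hC : Kill σ c (cokernel φ)) (h : Kill σ (c + 1) B) : Kill σ (c + 1) A := by
  haveI := hA.1
  haveI := hB.1
  have hI : Coh.IsCoh (Abelian.image φ) := QCohLib.isCoh_kernel _ hB (QCohLib.isQCoh_cokernel φ)
  let S : ShortComplex X.Modules := ShortComplex.mk (Abelian.image.ι φ) (cokernel.π φ) (kernel.condition _)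
  have hS : S.ShortExact := ShortComplex.ShortExact.mk (ShortComplex.exact_of_f_is_kernel _ (kernelIsKernel _))
  have h₁ : Kill σ (c + 1) (Abelian.image φ) := Kill.left hM hS h hC
  let T : ShortComplex X.Modules := ShortComplex.mk (kernel.ι φ) (Abelian.factorThruImage φ) (by
    rw [← cancel_mono (Abelian.image.ι φ), Category.assoc, Abelian.image.fac, kernel.condition, zero_comp])
  have hT : T.ShortExact := by
    refine ShortComplex.ShortExact.mk (ShortComplex.exact_of_f_is_kernel _ ?_)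
    exact isKernelOfComp (Abelian.image.ι φ) φ (kernelIsKernel φ) _ (Abelian.image.fac φ)
  refine Kill.mid hM hT (Kill.of_supported hM (QCohLib.isCoh_kernel _ hA hB.1) (fun y hy => ⟨fun a b => ?_⟩) _) h₁
  apply FLI.sMap_injective (kernel.ι φ) y
  apply hinj y hy
  rw [← FLI.sMap_comp, ← FLI.sMap_comp, kernel.condition, FLI.sMap_zero, FLI.sMap_zero]

end ProVanLib
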