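import Groth.Agent.ProVanLib.Kill
import Groth.Agent.ProjClosedImmLib.Stalk
import Groth.Agent.SurfExtLib.Bidual

/-!
# Transfer of the tower along a closed immersion
-/

set_option autoImplicit false
set_option linter.unusedSectionVars false
set_option linter.style.haveILetI false
set_option maxHeartbeats 1000000
set_option backward.isDefEq.respectTransparency false
set_option backward.isDefEq.respectTransparency.types false
universe u

open CategoryTheory CategoryTheory.Limits CategoryTheory.Abelian AlgebraicGeometry TopologicalSpace Opposite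
open KFlatLib (tens shTm pf pb puSec puSec_natural tens_hom_ext)

noncomputable section

namespace ProVanLib

variable {X Y : Scheme.{u}}

/-- A map whose direct image kills cohomology kills cohomology. -/
theorem zmap_of_push (i : X ⟶ Y) [IsAffineHom i] {A B : X.Modules} [Coh.IsQCoh A] [Coh.IsQCoh B] (φ : A ⟶ B) (j : ℕ)
    (h : ZMap ((Scheme.Modules.pushforward i).map φ) j) : ZMap φ j := by
  let C := A ⊞ B
  let φ' : C ⟶ C := biprod.fst ≫ φ ≫ biprod.inr
  haveI : Coh.IsQCoh C := QCohLib.isQCoh_biprod A B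
  have hφ : φ = biprod.inl ≫ φ' ≫ biprod.snd := by simp [φ', C]
  have h' : ZMap ((Scheme.Modules.pushforward i).map φ') j := by
    rw [Functor.map_comp, Functor.map_comp]
    exact (h.comp_right).comp_left
  suffices ZMap φ' j by
    rw [hφ]
    exact (this.comp_right).comp_left
  obtain ⟨e, he⟩ := FormalProLib.exists_pfEquiv_natural (f := i.base) (QCohLib.isBasis_affSet (Y := Y))
    (⊤ : Y.Opens) j ((QCohLib.toAbF X).obj C) (QCohLib.acyclicAbove_of_isAffineHom i C)
  refine ⟨fun x => ?_⟩
  obtain ⟨y, rfl⟩ := e.surjective x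
  refine (he ((QCohLib.toAbF X).map φ') y).symm.trans ?_
  refine (congrArg e ?_).trans (map_zero e)
  exact h'.out y

variable (i : X ⟶ Y) [IsClosedImmersion i] {MY : Y.Modules} (σY : MY ⟶ Coh.structureModule Y)

/-- The section pulled back. -/
def pbσ : (Scheme.Modules.pullback i).obj MY ⟶ Coh.structureModule X :=
  ((Scheme.Modules.pullbackPushforwardAdjunction i).homEquiv MY (Coh.structureModule X)).symm
    (σY ≫ ClSub.unitToPush i)

theorem pbσ_puSec {U : Y.Opens} (t : Γ(MY, U)) :
    (pbσ i σY).app (i ⁻¹ᵁ U) (puSec i t) = i.app U (σY.app U t) := by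
  have h := ((Scheme.Modules.pullbackPushforwardAdjunction i).homEquiv MY (Coh.structureModule X)).apply_symm_apply
    (σY ≫ ClSub.unitToPush i)
  rw [Adjunction.homEquiv_unit] at h
  exact congr($(h).app U t)

/-- `M_Y ⊗ i_* G ≅ i_* (i^* M_Y ⊗ G)`. -/
def theta (G : X.Modules) : tens MY (pf i G) ≅ pf i (tens (pb i MY) G) :=
  KFlatLib.tensSwap (pf i G) MY ≪≫ @asIso _ _ _ _ (ProjClosedImmLib.projR i G MY) inferInstance ≪≫
    (Scheme.Modules.pushforward i).mapIso (KFlatLib.tensSwap (pb i MY) G)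

theorem theta_shTm (G : X.Modules) {U : Y.Opens} (t : Γ(MY, U)) (s : Γ(pf i G, U)) :
    (theta i G).hom.app U (shTm t s) = shTm (puSec i t) (show Γ(G, i ⁻¹ᵁ U) from s) := by
  show (KFlatLib.tensSwap (pb i MY) G).hom.app (i ⁻¹ᵁ U) ((ProjClosedImmLib.projR i G MY).app U
    ((KFlatLib.tensSwap (pf i G) MY).hom.app U (shTm t s))) = _
  rw [SurfExtLib.tensSwap_shTm]
  refine (congrArg ((KFlatLib.tensSwap (pb i MY) G).hom.app (i ⁻¹ᵁ U)) (ProjClosedImmLib.projR_shTm i G MY s t)).trans ?_
  exact SurfExtLib.tensSwap_shTm _ _ _ _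

theorem theta_natural {G G' : X.Modules} (φ : G ⟶ G') :
    ((DCoh.tensorBi (X := Y)).obj MY).map ((Scheme.Modules.pushforward i).map φ) ≫ (theta i G').hom =
      (theta i G).hom ≫ (Scheme.Modules.pushforward i).map (((DCoh.tensorBi (X := X)).obj (pb i MY)).map φ) := by
  refine tens_hom_ext fun U t s => ?_
  refine ((congrArg ((theta i G').hom.app U)
    (KFlatLib.tensorBi_map₂_shTm MY ((Scheme.Modules.pushforward i).map φ) t s)).trans
      (theta_shTm i G' t _)).trans (Eq.symm ?_)
  refine (congrArg (((Scheme.Modules.pushforward i).map (((DCoh.tensorBi (X := X)).obj (pb i MY)).map φ)).app U)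
    (theta_shTm i G t s)).trans ?_
  exact KFlatLib.tensorBi_map₂_shTm (pb i MY) φ (puSec i t) (show Γ(G, i ⁻¹ᵁ U) from s)

theorem theta_eta (G : X.Modules) :
    (theta i G).hom ≫ (Scheme.Modules.pushforward i).map (eta (pbσ i σY) G) = eta σY (pf i G) := by
  refine tens_hom_ext fun U t s => ?_
  refine (congrArg (((Scheme.Modules.pushforward i).map (eta (pbσ i σY) G)).app U) (theta_shTm i G t s)).trans ?_
  show (ExtShLib.uL G).app (i ⁻¹ᵁ U) ((((DCoh.tensorBi (X := X)).map (pbσ i σY)).app G).app (i ⁻¹ᵁ U)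
      (shTm (puSec i t) (show Γ(G, i ⁻¹ᵁ U) from s))) =
    (ExtShLib.uL (pf i G)).app U ((((DCoh.tensorBi (X := Y)).map σY).app (pf i G)).app U (shTm t s))
  rw [KFlatLib.tensorBi_map₁_shTm, KFlatLib.tensorBi_map₁_shTm, pbσ_puSec]
  refine (ExtShLib.unitLeft_shTm G (i.app U (σY.app U t)) _).trans ?_
  refine Eq.trans ?_ (ExtShLib.unitLeft_shTm (pf i G) (show Γ(Y, U) from σY.app U t) s).symm
  exact (QCohLib.push_smul i G (show Γ(Y, U) from σY.app U t) s).symm

/-- Iterated `theta`. -/
def thetaN (G : X.Modules) : ∀ n : ℕ, (En MY n).obj (pf i G) ≅ pf i ((En (pb i MY) n).obj G)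
  | 0 => Iso.refl _
  | n + 1 => ((DCoh.tensorBi (X := Y)).obj MY).mapIso (thetaN G n) ≪≫ theta i ((En (pb i MY) n).obj G)

theorem thetaN_step (G : X.Modules) (n : ℕ) :
    (thetaN i G (n + 1)).hom ≫ (Scheme.Modules.pushforward i).map (step (pbσ i σY) G n) =
      step σY (pf i G) n ≫ (thetaN i G n).hom := by
  show (((DCoh.tensorBi (X := Y)).obj MY).map (thetaN i G n).hom ≫ (theta i _).hom) ≫
    (Scheme.Modules.pushforward i).map (eta (pbσ i σY) ((En (pb i MY) n).obj G)) = eta σY _ ≫ (thetaN i G n).hom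
  rw [Category.assoc, theta_eta, eta_natural]

theorem thetaN_tm (G : X.Modules) {a b : ℕ} (h : a ≤ b) :
    (thetaN i G b).hom ≫ (Scheme.Modules.pushforward i).map (tm (pbσ i σY) G h) =
      tm σY (pf i G) h ≫ (thetaN i G a).hom := by
  induction b, h using Nat.le_induction with
  | base =>
    rw [tm_refl, tm_refl, CategoryTheory.Functor.map_id, Category.comp_id]
    exact (Category.id_comp _).symm
  | succ b hab ih =>
    rw [← tm_comp (pbσ i σY) G hab (Nat.le_succ b), ← tm_comp σY (pf i G) hab (Nat.le_succ b), tm_succ, tm_succ,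
      Functor.map_comp, ← Category.assoc, thetaN_step, Category.assoc, ih, Category.assoc]

theorem isCoh_En {M : X.Modules} (hM : PicF.IsInvertible M) {G : X.Modules} (hG : Coh.IsCoh G) :
    ∀ n : ℕ, Coh.IsCoh ((En M n).obj G) := by
  intro n
  induction n with
  | zero => exact hG
  | succ n ih => exact QCohLib.isCoh_of_iso (HilbPolyLib.swapIso _ _) (SerreVanLib.isCoh_tensor ih hM)

/-- Pro-vanishing on `X` from pro-vanishing of the direct image. -/
theorem Kill.of_push (hMY : PicF.IsInvertible MY) {G : X.Modules} (hG : Coh.IsCoh G) {c : ℕ}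
    (h : Kill σY c (pf i G)) : Kill (pbσ i σY) c G := ⟨fun a => by
  obtain ⟨b, hab, hb⟩ := h.out a
  refine ⟨b, hab, fun j hj => ?_⟩
  haveI := (isCoh_En (AmpleDevLib.isInvertible_pb i hMY) hG b).1
  haveI := (isCoh_En (AmpleDevLib.isInvertible_pb i hMY) hG a).1
  refine zmap_of_push i _ j ?_
  rw [← Iso.inv_hom_id_assoc (thetaN i G b) ((Scheme.Modules.pushforward i).map (tm (pbσ i σY) G hab)),
    thetaN_tm i σY G hab]
  exact ((hb j hj).comp_right).comp_left⟩

end ProVanLib
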