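import Groth.Agent.ProVanLib.Pn
import Groth.Agent.ProVanLib.Transfer
import Groth.Agent.SurfExtLib.CBIdeal
import Groth.Agent.KoszIntLib.Stalk
import Groth.Agent.QuotObsLib.ExtFin
import Groth.Agent.MeroLib.ZeroScheme
import Groth.Agent.QuotSchLib.HilbQuot

/-!
# Pro-vanishing on a projective scheme from depth off the zero scheme of an ample section
-/

set_option autoImplicit false
set_option linter.unusedSectionVars false
set_option linter.style.haveILetI false
set_option maxHeartbeats 1000000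
set_option backward.isDefEq.respectTransparency false
set_option backward.isDefEq.respectTransparency.types false
universe u

open CategoryTheory CategoryTheory.Limits CategoryTheory.Abelian AlgebraicGeometry TopologicalSpace Opposite
open ProjFormLib (ger ger_res ger_map exists_ger res tF)
open KFlatLib (shTm tens)
open CohCmpLib (stk)
open SurfExtLib (oneAt)
open PnDualLib (ins ins_ger bijective_ins)

noncomputable section

namespace ProVanLib

variable {X : Scheme.{u}}

section Princ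

variable {M : X.Modules} (σ : M ⟶ Coh.structureModule X)

/-- The image of `σ` in the stalks is the ideal `𝒦`. -/
structure Princ (𝒦 : X.IdealSheafData) : Prop where
  out : ∀ (x : X) (g : stk M x) (f : X.presheaf.stalk x), IsGen M x g → IsVal σ x g f →
    IntMult.stalkIdeal 𝒦 x = Ideal.span {f}

variable {σ}

theorem val_unique {x : X} {g : stk M x} {f f' : X.presheaf.stalk x} (h : IsVal σ x g f) (h' : IsVal σ x g f') :
    f = f' := SurfExtLib.smul_oneAt_injective x (h.symm.trans h')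

theorem princ_of_exists {𝒦 : X.IdealSheafData} (h : ∀ x : X, ∃ (g : stk M x) (f : X.presheaf.stalk x),
    IsGen M x g ∧ IsVal σ x g f ∧ IntMult.stalkIdeal 𝒦 x = Ideal.span {f}) : Princ σ 𝒦 := by
  refine ⟨fun x g' f' hg' hf' => ?_⟩
  obtain ⟨g, f, hg, hf, hI⟩ := h x
  obtain ⟨a, ha⟩ := hg.2 g'
  obtain ⟨a', ha'⟩ := hg'.2 g
  have haa : a' * a = 1 := hg'.1 (by
    show (a' * a) • g' = (1 : X.presheaf.stalk x) • g'
    rw [one_smul, mul_comm, mul_smul]
    exact (congrArg (a • ·) ha').trans ha)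
  have hf'' : f' = a * f := val_unique hf' (by
    show FLI.sMap σ x g' = (a * f) • (oneAt x : stk (Coh.structureModule X) x)
    rw [mul_smul, ← hf, ← ha]
    exact map_smul (FLI.sMap σ x) a g)
  rw [hI, hf'', Ideal.span_singleton_mul_left_unit (IsUnit.of_mul_eq_one_right a' haa)]

theorem stalkIdeal_pow' (𝒦 : X.IdealSheafData) (x : X) (n : ℕ) :
    IntMult.stalkIdeal (𝒦 ^ n) x = IntMult.stalkIdeal 𝒦 x ^ n := by
  obtain ⟨U, hU, hxU, -⟩ := exists_isAffineOpen_mem_and_subset (x := x) (U := (⊤ : X.Opens)) trivial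
  rw [SDivLib.stalkIdeal_eq _ ⟨U, hU⟩ hxU, SDivLib.stalkIdeal_eq _ ⟨U, hU⟩ hxU,
    Scheme.IdealSheafData.ideal_pow, Pi.pow_apply, Ideal.map_pow]

theorem Princ.unitAt_iff {𝒦 : X.IdealSheafData} (h : Princ σ 𝒦) (hM : PicF.IsInvertible M) (x : X) :
    UnitAt σ x ↔ x ∉ (𝒦.support : Set X) := by
  obtain ⟨g, hg⟩ := exists_gen hM x
  obtain ⟨f, hf⟩ := exists_val σ x g
  have hI := h.out x g f hg hf
  refine ⟨fun hu hx => ?_, fun hx => unitAt_of_val hg hf ?_⟩
  · have h1 := KoszIntLib.stalkIdeal_le_maximal 𝒦 hx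
    rw [hI, Ideal.span_singleton_eq_top.2 (hu g f hg hf)] at h1
    exact (IsLocalRing.maximalIdeal.isMaximal _).ne_top (top_le_iff.1 h1)
  · rw [← Ideal.span_singleton_eq_top, ← hI]
    exact KoszIntLib.stalkIdeal_eq_top 𝒦 hx

theorem Princ.comp_iso {𝒦 : X.IdealSheafData} (h : Princ σ 𝒦) (hM : PicF.IsInvertible M) {M' : X.Modules}
    (e : M' ≅ M) : Princ (e.hom ≫ σ) 𝒦 := by
  refine princ_of_exists fun x => ?_
  obtain ⟨g, hg⟩ := exists_gen hM x
  obtain ⟨f, hf⟩ := exists_val σ x g
  refine ⟨FLI.sMap e.inv x g, f, ?_, ?_, h.out x g f hg hf⟩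
  · have hb : Function.Bijective (FLI.sMap e.inv x) :=
      ⟨FLI.sMap_injective e.inv x, FLI.sMap_surjective e.inv x⟩
    show Function.Bijective fun c : X.presheaf.stalk x => c • FLI.sMap e.inv x g
    rw [← (funext fun c => map_smul (FLI.sMap e.inv x) c g :
      (fun c : X.presheaf.stalk x => FLI.sMap e.inv x (c • g)) = fun c => c • FLI.sMap e.inv x g)]
    exact hb.comp hg
  · show FLI.sMap (e.hom ≫ σ) x (FLI.sMap e.inv x g) = _
    rw [← FLI.sMap_comp, e.inv_hom_id_assoc]
    exact hf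

theorem isVal_id (x : X) : IsVal (𝟙 (Coh.structureModule X)) x (oneAt x : stk (Coh.structureModule X) x) 1 := by
  show FLI.sMap (𝟙 _) x _ = _
  rw [one_smul]
  exact congrArg (fun φ => φ.hom (oneAt x : stk (Coh.structureModule X) x)) ((DerSch.stalkFunctor X x).map_id _)

theorem isGen_oneAt (x : X) : IsGen (Coh.structureModule X) x (oneAt x : stk (Coh.structureModule X) x) :=
  ⟨SurfExtLib.smul_oneAt_injective x, SurfExtLib.exists_smul_oneAt x⟩

theorem isInvertible_En (hM : PicF.IsInvertible M) : ∀ n : ℕ, PicF.IsInvertible ((En M n).obj (Coh.structureModule X)) := by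
  intro n
  induction n with
  | zero => exact CubeConsLib.isInvertible_one _
  | succ n ih => exact MiscFlat6.tensorMod_isInvertible hM ih

theorem Princ.pow {𝒦 : X.IdealSheafData} (h : Princ σ 𝒦) (hM : PicF.IsInvertible M) (n : ℕ) :
    Princ (ev σ (Coh.structureModule X) n) (𝒦 ^ n) := by
  refine princ_of_exists fun x => ?_
  obtain ⟨g, hg⟩ := exists_gen hM x
  obtain ⟨f, hf⟩ := exists_val σ x g
  refine ⟨jn g (Coh.structureModule X) n (oneAt x), f ^ n, ?_, ev_jn hf _ n _, ?_⟩
  · show Function.Bijective fun c : X.presheaf.stalk x => c • jn g (Coh.structureModule X) n (oneAt x)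
    rw [← (funext fun c => jn_smul g (Coh.structureModule X) c n (oneAt x) :
      (fun c : X.presheaf.stalk x => jn g (Coh.structureModule X) n (c • (oneAt x : stk (Coh.structureModule X) x))) =
        fun c => c • jn g (Coh.structureModule X) n (oneAt x))]
    exact (jn_bijective hg _ n).comp (isGen_oneAt x)
  · rw [stalkIdeal_pow', h.out x g f hg hf, Ideal.span_singleton_pow]

/-- The dual of a section. -/
def dualSec {L M : X.Modules} (ψ : tens L M ≅ Coh.structureModule X) (s : Coh.structureModule X ⟶ L) :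
    M ⟶ Coh.structureModule X :=
  (asIso (ExtShLib.uL M)).inv ≫ ((DCoh.tensorBi (X := X)).map s).app M ≫ ψ.hom

theorem princ_dualSec {L M : X.Modules} (hL : PicF.IsInvertible L) (hM : PicF.IsInvertible M)
    (ψ : tens L M ≅ Coh.structureModule X) (s : Coh.structureModule X ⟶ L) :
    Princ (dualSec ψ s) (PicF2.zeroScheme L s) := by
  refine princ_of_exists fun x => ?_
  obtain ⟨U, e, hxU, he⟩ := TwistLib.exists_genOn hL x
  obtain ⟨W, hW, hxW, hWU⟩ := exists_isAffineOpen_mem_and_subset hxU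
  have hg := he.res (hWU : W ≤ U)
  obtain ⟨c, hc⟩ := (hg W le_rfl).2 (MeroLib.secOn s W)
  simp only [AmpleLib.res_refl] at hc
  let γ : stk L x := ger L x hxW (AmpleLib.res L hWU e)
  have hs : FLI.sMap s x (oneAt x) = X.presheaf.germ W x hxW c • γ := by
    rw [← ProjFormLib.ger_smul]
    refine (ger_map s x (U := ⊤) trivial _).trans ?_
    refine Eq.trans ?_ (congrArg (ger L x hxW) hc).symm
    rw [← MeroLib.secOn_res s (le_top : W ≤ ⊤)]
    exact (ger_res L le_top x hxW _).symm
  obtain ⟨m, hm⟩ := exists_gen hM x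
  obtain ⟨d, hd⟩ := SurfExtLib.exists_smul_oneAt x (FLI.sMap ψ.hom x (ins L M x γ m))
  have hdu : IsUnit d := by
    have hb : Function.Bijective fun c : X.presheaf.stalk x => c • FLI.sMap ψ.hom x (ins L M x γ m) := by
      have h1 := (show Function.Bijective (FLI.sMap ψ.hom x) from
        ⟨FLI.sMap_injective ψ.hom x, FLI.sMap_surjective ψ.hom x⟩).comp
          ((bijective_ins L M x γ (hg.genAt hxW)).comp hm)
      rw [← (funext fun c => (congrArg (FLI.sMap ψ.hom x) (map_smul (ins L M x γ) c m)).trans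
          (map_smul (FLI.sMap ψ.hom x) c _) :
        (FLI.sMap ψ.hom x ∘ (ins L M x γ ∘ fun c : X.presheaf.stalk x => c • m)) =
          fun c : X.presheaf.stalk x => c • FLI.sMap ψ.hom x (ins L M x γ m))]
      exact h1
    obtain ⟨a, ha⟩ := hb.2 (oneAt x)
    refine IsUnit.of_mul_eq_one_right a (SurfExtLib.smul_oneAt_injective x ?_)
    show (a * d) • (oneAt x : stk (Coh.structureModule X) x) = (1 : X.presheaf.stalk x) • oneAt x
    rw [one_smul, mul_smul, hd]
    exact ha
  refine ⟨m, X.presheaf.germ W x hxW c * d, hm, ?_, ?_⟩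
  · have h1 : FLI.sMap (asIso (ExtShLib.uL M)).inv x m = ins (Coh.structureModule X) M x (oneAt x) m := by
      apply FLI.sMap_injective (ExtShLib.uL M) x
      have h2 := eta_ins (isVal_id x) M m
      rw [eta, CategoryTheory.Functor.map_id, one_smul] at h2
      rw [← FLI.sMap_comp, asIso_inv, IsIso.inv_hom_id]
      refine (congrArg (fun φ => φ.hom m) ((DerSch.stalkFunctor X x).map_id _)).trans ?_
      refine h2.symm.trans ?_
      rw [NatTrans.id_app, Category.id_comp]
    show FLI.sMap (dualSec ψ s) x m = _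
    rw [dualSec, FLI.sMap_comp, h1, FLI.sMap_comp]
    have h3 : FLI.sMap (((DCoh.tensorBi (X := X)).map s).app M) x (ins (Coh.structureModule X) M x (oneAt x) m) =
        ins L M x (FLI.sMap s x (oneAt x)) m := by
      obtain ⟨V, hxV, v, rfl⟩ := exists_ger M x m
      obtain ⟨V', hxV', o, ho⟩ := exists_ger (Coh.structureModule X) x (oneAt x : stk (Coh.structureModule X) x)
      have hx : x ∈ V ⊓ V' := ⟨hxV, hxV'⟩
      rw [← ho, ← ger_res M (inf_le_left : V ⊓ V' ≤ V) x hx v,
        ← ger_res (Coh.structureModule X) (inf_le_right : V ⊓ V' ≤ V') x hx o, ins_ger]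
      refine (ger_map (((DCoh.tensorBi (X := X)).map s).app M) x hx _).trans ?_
      rw [KFlatLib.tensorBi_map₁_shTm, ← ins_ger L M x hx]
      exact congrArg (fun z => ins L M x z _) (ger_map s x hx _).symm
    rw [h3, hs, PnDualLib.ins_smul, map_smul, ← hd, smul_smul]
  · rw [SDivLib.stalkIdeal_eq _ ⟨W, hW⟩ hxW, MeroLib.zeroScheme_ideal_of_genOn (W := ⟨W, hW⟩) hL s hg hc,
      Ideal.map_span, Set.image_singleton, Ideal.span_singleton_mul_right_unit hdu]

end Princ

variable {k : Type u} [Field k]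

theorem nonempty_En_pow {M : X.Modules} : ∀ n : ℕ,
    Nonempty ((En M n).obj (Coh.structureModule X) ≅ CohB1.tensorPow M n) := by
  intro n
  induction n with
  | zero => exact ⟨Iso.refl _⟩
  | succ n ih =>
    obtain ⟨e⟩ := ih
    exact ⟨HilbPolyLib.congrRight M e ≪≫ HilbPolyLib.swapIso _ _⟩

/-- Maps from negative twists lift from a closed subscheme. -/
theorem exists_lift {N : ℕ} (i : X ⟶ CohB1.ProjSpace N k) [IsClosedImmersion i] :
    ∃ q₀ : ℕ, ∀ q, q₀ ≤ q → ∀ ψ : Twist.twistProjSpace N k (-(q : ℤ)) ⟶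
        (Scheme.Modules.pushforward i).obj (Coh.structureModule X),
      ∃ F : Twist.twistProjSpace N k (-(q : ℤ)) ⟶ Coh.structureModule (CohB1.ProjSpace N k),
        F ≫ ClSub.unitToPush i = ψ := by
  haveI := isNoetherian_projSpace (k := k) (N := N)
  haveI : HasExt.{u} (CohB1.ProjSpace N k).Modules := inferInstance
  haveI : Epi (ClSub.unitToPush i) := QuotSchLib.epi_unitToPush i
  let P := CohB1.ProjSpace N k
  let OA := Twist.twistProjSpace N k
  haveI : IsLocallyNoetherian X := LocallyOfFiniteType.isLocallyNoetherian i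
  haveI := (QCohLib.isCoh_push_finite i _ (DevissLib.isCoh_structureModule X)).1
  have hK : Coh.IsCoh (kernel (ClSub.unitToPush i)) :=
    QCohLib.isCoh_kernel _ (DevissLib.isCoh_structureModule P) inferInstance
  obtain ⟨hp, -, -⟩ := Groth.Agent.KoszOrthLib.projSpace_hyps N k
  haveI := hp
  obtain ⟨q₀, hq⟩ := SerreVanLib.exists_vanishing (CohB1.ProjSpace.toSpec N k)
    (PicPnLib.twist_inv N k 1) (FormalCohLib.isAmple_twistProjSpace (n := N) (R := k)) _ hK
  refine ⟨q₀, fun q hqq ψ => ?_⟩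
  obtain ⟨e⟩ := LefFlatLib.nonempty_pow_twist N k q
  obtain ⟨a⟩ := PicPnLib.twist_add N k (q : ℤ) (-(q : ℤ))
  obtain ⟨e₀⟩ := PicPnLib.twist_zero N k
  have vC : CohB1.tensorMod (OA q) (OA (-(q : ℤ))) ≅ Coh.structureModule P :=
    a ≪≫ eqToIso (by rw [add_neg_cancel]) ≪≫ e₀
  have h1 : Subsingleton (Ext.{u} (CohB1.tensorMod (OA (-(q : ℤ))) (FlatMod.freeMod P 1)) (kernel (ClSub.unitToPush i)) 1) :=
    QuotObsLib.subsingleton_ext_untwist vC 1 _
      (SerreVanLib.subsingleton_HH_of_iso (HilbPolyLib.congrRight _ e.symm) 1 (hq q hqq 1 one_pos))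
  let u : CohB1.tensorMod (OA (-(q : ℤ))) (FlatMod.freeMod P 1) ≅ OA (-(q : ℤ)) :=
    HilbPolyLib.congrRight _ (coproductUniqueIso fun _ : Fin 1 => Coh.structureModule P) ≪≫ HilbPolyLib.swapIso _ _ ≪≫ HilbPolyLib.unitLeft _
  let S : ShortComplex P.Modules := ShortComplex.mk (kernel.ι (ClSub.unitToPush i)) _ (kernel.condition _)
  have hS : S.ShortExact := ShortComplex.ShortExact.mk (ShortComplex.exact_kernel _)
  obtain ⟨x, hx⟩ := Ext.covariant_sequence_exact₃ (CohB1.tensorMod (OA (-(q : ℤ))) (FlatMod.freeMod P 1)) hS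
    (Ext.mk₀ (u.hom ≫ ψ)) (zero_add 1) (h1.elim _ _)
  obtain ⟨g, rfl⟩ := (Ext.mk₀_bijective _ _).2 x
  rw [Ext.mk₀_comp_mk₀] at hx
  refine ⟨u.inv ≫ g, ?_⟩
  have h2 : g ≫ ClSub.unitToPush i = u.hom ≫ ψ := (Ext.mk₀_bijective _ _).1 hx
  rw [Category.assoc, h2, Iso.inv_hom_id_assoc]

/-- Invertibility pulls back. -/
theorem isUnit_pb {Y : Scheme.{u}} (i : X ⟶ Y) [IsClosedImmersion i] {MY : Y.Modules}
    (σY : MY ⟶ Coh.structureModule Y) (hMY : PicF.IsInvertible MY) (x : X) (hu : UnitAt σY (i x)) :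
    UnitAt (pbσ i σY) x := by
  obtain ⟨U, e, hxU, he⟩ := TwistLib.exists_genOn hMY (i x)
  let r : Γ(Y, U) := σY.app U e
  have hval : IsVal σY (i x) (ger MY (i x) hxU e) (Y.presheaf.germ U (i x) hxU r) :=
    (ger_map σY (i x) hxU e).trans (FLI.ger_smul_one (i x) hxU r)
  have hr := hu _ _ (he.genAt hxU) hval
  have hval' : IsVal (pbσ i σY) x (ger (KFlatLib.pb i MY) x (U := i ⁻¹ᵁ U) hxU (KFlatLib.puSec i e))
      (X.presheaf.germ (i ⁻¹ᵁ U) x hxU (i.app U r)) := by
    refine (ger_map (pbσ i σY) x (U := i ⁻¹ᵁ U) hxU _).trans ?_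
    rw [pbσ_puSec]
    exact FLI.ger_smul_one x (U := i ⁻¹ᵁ U) hxU (i.app U r)
  refine unitAt_of_val (TwistLib.GenAt.puSec i (hx := hxU) (he.genAt hxU)) hval' ?_
  rw [← Scheme.Hom.germ_stalkMap_apply i U x hxU r]
  exact hr.map (i.stalkMap x).hom

/-- Pro-vanishing for the tower pulled back from a form. -/
theorem kill_of_form {N : ℕ} (i : X ⟶ CohB1.ProjSpace N k) [IsClosedImmersion i] {q : ℕ} (hq : 0 < q)
    (F : Twist.twistProjSpace N k (-(q : ℤ)) ⟶ Coh.structureModule (CohB1.ProjSpace N k))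
    (S : Set X) (hS : ∀ x, UnitAt (pbσ i F) x → x ∉ S)
    (G : X.Modules) (hG : Coh.IsCoh G) (c : ℕ)
    (hc : ∀ x : X, IsClosed ({x} : Set X) → x ∉ S →
      (c : ℕ∞) ≤ LocCoh.depth (X.presheaf.stalk x) (G.presheaf.stalk x)) : Kill (pbσ i F) c G := by
  let MP := Twist.twistProjSpace N k (-(q : ℤ))
  have hMP : PicF.IsInvertible MP := PicPnLib.twist_inv N k _
  refine Kill.of_push i F hMP hG ?_
  have hGc : Coh.IsCoh ((Coh.push i).obj G) := PnDualLib.isCoh_push' i hG
  haveI := isNoetherian_projSpace (k := k) (N := N)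
  by_cases hcN : c ≤ N
  · refine kill_of_pdlt (Iso.refl MP) hq hMP (N - c) c (by omega) _ hGc fun y hy hu => ?_
    haveI := hGc.1
    by_cases hmem : y ∈ Set.range ⇑i
    · obtain ⟨x, rfl⟩ := hmem
      have hxc : IsClosed ({x} : Set X) := by
        convert hy.preimage i.continuous
        exact Set.ext fun w => ⟨fun hw => by simp_all, fun hw => i.isClosedEmbedding.injective hw⟩
      have hxs : x ∉ S := hS x (isUnit_pb i F hMP x hu)
      haveI : IsRegularLocalRing ((CohB1.ProjSpace N k).presheaf.stalk (i x)) :=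
        (PnDualLib.closedPt_projSpace k N (i x) hy).1
      haveI : Module.Finite ((CohB1.ProjSpace N k).presheaf.stalk (i x))
          (((Coh.push i).obj G).presheaf.stalk (i x)) := DepthLib.finite_stalk _ hGc.2 _
      have h2 : (c : ℕ∞) ≤ LocCoh.depth ((CohB1.ProjSpace N k).presheaf.stalk (i x))
          (((Coh.push i).obj G).presheaf.stalk (i x)) := by
        rw [PnDualLib.depth_push i G hG x]
        exact hc x hxc hxs
      have h3 := (DepthLib.le_depth_add_iff_pdlt _ _ (PnDualLib.closedPt_projSpace k N (i x) hy).2 0 c).1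
        (by rw [Nat.cast_zero, add_zero]; exact_mod_cast h2)
      exact h3.mono (by omega)
    · have hn : y ∉ CohB1.support ((Coh.push i).obj G) := fun h => hmem (DevissLib.support_push_subset i G h)
      haveI : Subsingleton (((Coh.push i).obj G).presheaf.stalk y) := not_not.mp hn
      have hproj : Module.Projective ((CohB1.ProjSpace N k).presheaf.stalk y) (((Coh.push i).obj G).presheaf.stalk y) :=
        Module.Projective.of_free
      exact (CommAlgDim.pdlt_one_iff.2 hproj).mono (by omega)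
  · obtain ⟨hp, -, -⟩ := Groth.Agent.KoszOrthLib.projSpace_hyps N k
    haveI := hp
    haveI : JacobsonSpace (CohB1.ProjSpace N k : Scheme.{u}) :=
      LocallyOfFiniteType.jacobsonSpace (CohB1.ProjSpace.toSpec N k)
    haveI := hGc.1
    refine Kill.of_supported hMP hGc (fun y hu => not_not.mp fun hy => ?_) c
    obtain ⟨z, ⟨hz, hzu⟩, hzc⟩ := nonempty_inter_closedPoints
      (Z := closure ({y} : Set (CohB1.ProjSpace N k : Scheme.{u})) ∩ {w | UnitAt F w}) ⟨y, subset_closure rfl, hu⟩
      (isClosed_closure.isLocallyClosed.inter (isOpen_unitAt hMP).isLocallyClosed)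
    have hzs : z ∈ CohB1.support ((Coh.push i).obj G) :=
      (QCohLib.isClosed_support _ hGc.2).closure_subset_iff.2 (Set.singleton_subset_iff.2 hy) hz
    obtain ⟨x, rfl⟩ := DevissLib.support_push_subset i G hzs
    refine hzs ?_
    haveI : IsRegularLocalRing ((CohB1.ProjSpace N k).presheaf.stalk (i x)) :=
      (PnDualLib.closedPt_projSpace k N (i x) hzc).1
    haveI : Module.Finite ((CohB1.ProjSpace N k).presheaf.stalk (i x))
        (((Coh.push i).obj G).presheaf.stalk (i x)) := DepthLib.finite_stalk _ hGc.2 _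
    have hxc : IsClosed ({x} : Set X) := by
      convert (mem_closedPoints_iff.1 hzc).preimage i.continuous
      exact Set.ext fun w => ⟨fun hw => by simp_all, fun hw => i.isClosedEmbedding.injective hw⟩
    have hxs : x ∉ S := hS x (isUnit_pb i F hMP x hzu)
    refine DepthLib.subsingleton_of_lt_depth _ _ (PnDualLib.closedPt_projSpace k N (i x) hzc).2 ?_
    rw [PnDualLib.depth_push i G hG x]
    exact le_trans (by exact_mod_cast (by omega : N + 1 ≤ c)) (hc x hxc hxs)


/-- The set-up on a projective scheme: a tower with pro-zero low cohomology whose image is a power of the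
ideal of the zero scheme. -/
theorem exists_tower [X.Over (Spec (CommRingCat.of k))] [IsProper (X ↘ Spec (CommRingCat.of k))]
    {L : X.Modules} (hL : CohB1.IsAmple L) (s : Coh.structureModule X ⟶ L) :
    ∃ (M : X.Modules) (σ : M ⟶ Coh.structureModule X) (e : ℕ), PicF.IsInvertible M ∧ 0 < e ∧
      Princ σ ((PicF2.zeroScheme L s) ^ e) ∧
      ∀ (G : X.Modules), Coh.IsCoh G → ∀ c : ℕ,
        (∀ x : X, IsClosed ({x} : Set X) → x ∉ ((PicF2.zeroScheme L s).support : Set X) →
          (c : ℕ∞) ≤ LocCoh.depth (X.presheaf.stalk x) (G.presheaf.stalk x)) → Kill σ c G := by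
  obtain ⟨N, d, i, hd0, hi, -, ⟨ed⟩⟩ := PnDualLib.exists_closedImm_pow k hL
  haveI := hi
  haveI : IsNoetherian X := CurvLib.isNoetherian k (X := X)
  let D := MiscFlat6.dual L
  obtain ⟨ψ⟩ := MiscFlat6.nonempty_dualIso hL.1
  have hD : PicF.IsInvertible D := CohCmpLib.isInvertible_of_inverse' hL.1 ψ
  have hinv : ClSub.IsInverseOf L D := ⟨ψ⟩
  obtain ⟨q₀, hlift⟩ := exists_lift i
  let q := q₀ + 1
  let OA := Twist.twistProjSpace N k
  let MP := OA (-(q : ℤ))
  let MX := (Scheme.Modules.pullback i).obj MP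
  let μ : D ⟶ Coh.structureModule X := dualSec (L := L) (M := D) ψ s
  have hμ : Princ μ (PicF2.zeroScheme L s) := princ_dualSec hL.1 hD _ s
  obtain ⟨p⟩ := PnDualLib.nonempty_inv_pow i hinv ed q
  obtain ⟨p'⟩ := nonempty_En_pow (M := D) (d * q)
  let ι₀ : MX ≅ (En D (d * q)).obj (Coh.structureModule X) := p.symm ≪≫ p'.symm
  let ν : MX ⟶ Coh.structureModule X := ι₀.hom ≫ ev μ (Coh.structureModule X) (d * q)
  have hν : Princ ν ((PicF2.zeroScheme L s) ^ (d * q)) :=
    (hμ.pow hD (d * q)).comp_iso (isInvertible_En hD _) ι₀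
  obtain ⟨F, hF⟩ := hlift q (Nat.le_succ q₀)
    (((Scheme.Modules.pullbackPushforwardAdjunction i).homEquiv MP (Coh.structureModule X)) ν)
  have hpb : pbσ i F = ν := by rw [pbσ, hF, Equiv.symm_apply_apply]
  have hMP : PicF.IsInvertible MP := PicPnLib.twist_inv N k _
  have hMX : PicF.IsInvertible MX := AmpleDevLib.isInvertible_pb i hMP
  refine ⟨MX, ν, d * q, hMX, Nat.mul_pos hd0 (Nat.succ_pos q₀), hν, fun G hG c hc => ?_⟩
  have hq' : 0 < q := Nat.succ_pos q₀
  have hsupp : ∀ x, UnitAt (pbσ i F) x → x ∉ ((PicF2.zeroScheme L s).support : Set X) := fun x hu h => by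
    rw [hpb] at hu
    refine (hν.unitAt_iff hMX x).1 hu ?_
    rw [Scheme.IdealSheafData.support_pow _ (d * q) (Nat.mul_pos hd0 hq').ne']
    exact h
  rw [← hpb]
  exact kill_of_form i hq' F _ hsupp G hG c hc

end ProVanLib
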