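import Groth.Agent.ProVanLib.Kill
import Groth.Agent.LefFlatLib.Neg
import Groth.Agent.SurfExtLib.CBHom
import Groth.Agent.SurfExtLib.Bidual

/-!
# Pro-vanishing on projective space from the projective dimension off a hypersurface
-/

set_option autoImplicit false
set_option linter.unusedSectionVars false
set_option linter.style.haveILetI false
set_option maxHeartbeats 1000000
set_option backward.isDefEq.respectTransparency false
set_option backward.isDefEq.respectTransparency.types false
universe u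

open CategoryTheory CategoryTheory.Limits AlgebraicGeometry TopologicalSpace Opposite
open ProjFormLib (ger ger_res ger_map exists_ger res tF)
open KFlatLib (shTm tens)
open CohCmpLib (stk homMod evMod curryMod evS)
open ChernOpLib (du duMap)

noncomputable section

namespace ProVanLib

section Gen

variable {X : Scheme.{u}} {M : X.Modules} {σ : M ⟶ Coh.structureModule X}

theorem unitAt_of_val {x : X} {g : stk M x} {f : X.presheaf.stalk x} (hg : IsGen M x g) (hf : IsVal σ x g f)
    (hu : IsUnit f) : UnitAt σ x := by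
  intro g' f' hg' hf'
  obtain ⟨a, ha⟩ := hg.2 g'
  obtain ⟨a', ha'⟩ := hg'.2 g
  have haa : a' * a = 1 := hg'.1 (by
    show (a' * a) • g' = (1 : X.presheaf.stalk x) • g'
    rw [one_smul, mul_comm, mul_smul]
    exact (congrArg (a • ·) ha').trans ha)
  have : f' = a * f := SurfExtLib.smul_oneAt_injective x (by
    show f' • (SurfExtLib.oneAt x : stk (Coh.structureModule X) x) = (a * f) • SurfExtLib.oneAt x
    rw [← hf', mul_smul, ← hf, ← ha]
    exact map_smul (FLI.sMap σ x) a g)
  rw [this]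
  exact (IsUnit.of_mul_eq_one_right a' haa).mul hu

theorem isOpen_unitAt (hM : PicF.IsInvertible M) : IsOpen {x : X | UnitAt σ x} := by
  rw [isOpen_iff_forall_mem_open]
  intro x hx
  obtain ⟨U, l, hxU, hl⟩ := TwistLib.exists_genOn hM x
  let r : Γ(X, U) := σ.app U l
  have hval : ∀ (y : X) (hy : y ∈ U), IsVal σ y (ger M y hy l) (X.presheaf.germ U y hy r) := fun y hy =>
    (ger_map σ y hy l).trans (FLI.ger_smul_one y hy r)
  refine ⟨X.basicOpen r, fun y hy => ?_, (X.basicOpen r).2,
    (X.mem_basicOpen r x hxU).2 (hx _ _ (hl.genAt hxU) (hval x hxU))⟩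
  have hyU := X.basicOpen_le r hy
  exact unitAt_of_val (hl.genAt hyU) (hval y hyU) ((X.mem_basicOpen r y hyU).1 hy)

end Gen

variable {k : Type u} [Field k] {N : ℕ}

local notation "ℙ" => CohB1.ProjSpace N k
local notation "OA" => Twist.twistProjSpace N k

theorem isNoetherian_projSpace : IsNoetherian (ℙ : Scheme.{u}) := by
  haveI := LefFlatLib.compactSpace_projSpace N k
  haveI := LefFlatLib.isLocallyNoetherian_projSpace N k
  exact ⟨⟩

variable {M : (CohB1.ProjSpace N k).Modules} {q : ℕ}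

theorem nonempty_En_iso (e : M ≅ OA (-(q : ℤ))) (G : (CohB1.ProjSpace N k).Modules) :
    ∀ n : ℕ, Nonempty ((En M n).obj G ≅ (tF (OA (-((n * q : ℕ) : ℤ)))).obj G) := by
  intro n
  induction n with
  | zero =>
    obtain ⟨e₀⟩ := PicPnLib.twist_zero N k
    exact ⟨(HilbPolyLib.unitLeft G).symm ≪≫ HilbPolyLib.congrLeft (e₀.symm ≪≫ eqToIso (by simp)) G⟩
  | succ n ih =>
    obtain ⟨i⟩ := ih
    obtain ⟨a⟩ := PicPnLib.twist_add N k (-(q : ℤ)) (-((n * q : ℕ) : ℤ))
    exact ⟨HilbPolyLib.congrRight M i ≪≫ HilbPolyLib.congrLeft e _ ≪≫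
      (HilbPolyLib.assocIso _ _ _).symm ≪≫
      HilbPolyLib.congrLeft (a ≪≫ eqToIso (by congr 1; push_cast; ring)) G⟩

theorem kill_of_van {σ : M ⟶ Coh.structureModule (CohB1.ProjSpace N k)} (e : M ≅ OA (-(q : ℤ))) (hq : 0 < q) {c : ℕ}
    {G : (CohB1.ProjSpace N k).Modules} (h : LefFlatLib.Van N k c G) : Kill σ c G := ⟨fun a => by
  obtain ⟨m₀, hm₀⟩ := h.out
  refine ⟨a + m₀, Nat.le_add_right a m₀, fun j hj => zmap_of_subsingleton _ j ?_⟩
  obtain ⟨i⟩ := nonempty_En_iso e G (a + m₀)
  exact SerreVanLib.subsingleton_HH_of_iso i j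
    (hm₀ _ ((Nat.le_add_left m₀ a).trans (Nat.le_mul_of_pos_right _ hq)) j hj)⟩

/-- A coherent module free off the hypersurface maps to a good bundle, split injectively off the hypersurface. -/
theorem exists_split_emb {σ : M ⟶ Coh.structureModule (CohB1.ProjSpace N k)} (V : (CohB1.ProjSpace N k).Modules) (hV : Coh.IsCoh V)
    (hfree : ∀ y, UnitAt σ y → Module.Free ((CohB1.ProjSpace N k).presheaf.stalk y) (stk V y)) :
    ∃ (E : (CohB1.ProjSpace N k).Modules) (δ : V ⟶ du E), LefFlatLib.Good N k E ∧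
      ∀ y, UnitAt σ y → Function.Injective (FLI.sMap δ y) ∧
        Module.Free ((CohB1.ProjSpace N k).presheaf.stalk y) (stk (cokernel δ) y) := by
  haveI := isNoetherian_projSpace (k := k) (N := N)
  let O := Coh.structureModule (CohB1.ProjSpace N k)
  obtain ⟨E, g, hE, hg, -⟩ := LefFlatLib.exists_good_epi N k (du V)
    (HomCohLib.isCoh_homMod hV (DevissLib.isCoh_structureModule _))
  haveI := hg
  let φ : tens E V ⟶ O := ((DCoh.tensorBi (X := CohB1.ProjSpace N k)).map g).app V ≫
    (KFlatLib.tensSwap V (du V)).hom ≫ evMod V O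
  let δ : V ⟶ du E := curryMod φ
  have key : ∀ (y) (v : stk V y) (e : stk E y),
      evS (evMod E O) y (FLI.sMap δ y v) e = evS (evMod V O) y (FLI.sMap g y e) v := by
    intro y v e
    refine (congrArg (fun (z : _ →ₗ[_] _) => z e) (CohCmpLib.evS_evMod_curry φ y v)).trans ?_
    obtain ⟨U, hyU, e, rfl⟩ := exists_ger E y e
    obtain ⟨W, hyW, v, rfl⟩ := exists_ger V y v
    rw [← ger_res E (inf_le_left : U ⊓ W ≤ U) y ⟨hyU, hyW⟩ e, ← ger_res V (inf_le_right : U ⊓ W ≤ W) y ⟨hyU, hyW⟩ v,
      CohCmpLib.evS_ger]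
    refine Eq.trans ?_ (congrArg (fun z => evS (evMod V O) y z _) (ger_map g y _ _)).symm
    rw [CohCmpLib.evS_ger]
    refine congrArg (ger O y _) ?_
    show (evMod V O).app _ ((KFlatLib.tensSwap V (du V)).hom.app _
      ((((DCoh.tensorBi (X := CohB1.ProjSpace N k)).map g).app V).app _ (shTm _ _))) = _
    rw [KFlatLib.tensorBi_map₁_shTm, SurfExtLib.tensSwap_shTm]
  refine ⟨E, δ, hE, fun y hy => ?_⟩
  haveI := hfree y hy
  haveI := hV.1
  let R := (CohB1.ProjSpace N k).presheaf.stalk y
  haveI : Module.Finite R (stk V y) := DepthLib.finite_stalk V hV.2 y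
  let b := Module.Free.chooseBasis R (stk V y)
  obtain ⟨u⟩ := RefHullLib.nonempty_stalk_unit (CohB1.ProjSpace N k) y
  have hevV := SurfExtLib.homEv_evMod_of_isCoh (𝟙 (CohB1.ProjSpace N k)) hV O y
  choose n hn using fun i => hevV.2 (u.toLinearMap.comp (b.coord i))
  choose e he using fun i => FLI.sMap_surjective g y (n i)
  let ρ : stk (du E) y →ₗ[R] stk V y :=
    ∑ i, (LinearMap.toSpanSingleton R (stk V y) (b i)).comp
      (u.symm.toLinearMap.comp ((LinearMap.applyₗ (e i)).comp (evS (evMod E O) y)))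
  have hρ : ∀ v, ρ (FLI.sMap δ y v) = v := by
    intro v
    refine Eq.trans ?_ (b.sum_repr v)
    simp only [ρ, LinearMap.coe_sum, Finset.sum_apply]
    refine Finset.sum_congr rfl fun i _ => ?_
    show u.symm (evS (evMod E O) y (FLI.sMap δ y v) (e i)) • b i = _
    rw [key, he, hn]
    exact congrArg (· • b i) (u.symm_apply_apply (b.coord i v))
  refine ⟨Function.LeftInverse.injective hρ, ?_⟩
  haveI : Module.Free R (stk (du E) y) :=
    MiscFlat6.free_stalk_of_isFinLocFree (LefFlatLib.isFinLocFree_du hE.1) y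
  haveI := (LocSuppLib.isCoh_of_isFinLocFree (LefFlatLib.isFinLocFree_du hE.1)).1
  haveI : Module.Finite R (stk (du E) y) :=
    DepthLib.finite_stalk (du E) (LocSuppLib.isCoh_of_isFinLocFree (LefFlatLib.isFinLocFree_du hE.1)).2 y
  let π := FLI.sMap (cokernel.π δ) y
  have hπ : Function.Surjective π := FLI.sMap_surjective _ y
  let θ : stk (du E) y →ₗ[R] stk (du E) y := LinearMap.id - (FLI.sMap δ y).comp ρ
  have hker : LinearMap.ker π ≤ LinearMap.ker θ := fun w hw => by
    obtain ⟨v, rfl⟩ := FLI.exists_of_exact δ (cokernel.π δ) (cokernel.condition δ)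
      (ShortComplex.exact_cokernel δ) y hw
    show FLI.sMap δ y v - FLI.sMap δ y (ρ (FLI.sMap δ y v)) = 0
    rw [hρ, sub_self]
  let s : stk (cokernel δ) y →ₗ[R] stk (du E) y :=
    ((LinearMap.ker π).liftQ θ hker).comp (LinearMap.quotKerEquivOfSurjective π hπ).symm.toLinearMap
  have hs : π.comp s = LinearMap.id := by
    refine LinearMap.ext fun z => ?_
    obtain ⟨w, rfl⟩ := hπ z
    have h1 : (LinearMap.quotKerEquivOfSurjective π hπ).symm (π w) = Submodule.Quotient.mk w := by
      rw [LinearEquiv.symm_apply_eq]; rfl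
    show π ((LinearMap.ker π).liftQ θ hker ((LinearMap.quotKerEquivOfSurjective π hπ).symm (π w))) = π w
    rw [h1, Submodule.liftQ_apply]
    show π (w - FLI.sMap δ y (ρ w)) = π w
    rw [map_sub]
    show π w - FLI.sMap (cokernel.π δ) y (FLI.sMap δ y (ρ w)) = π w
    rw [← FLI.sMap_comp, cokernel.condition, FLI.sMap_zero, sub_zero]
  haveI : Module.Projective R (stk (cokernel δ) y) := Module.Projective.of_split s π hs
  haveI : Module.Finite R (stk (cokernel δ) y) := Module.Finite.of_surjective π hπ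
  exact Module.free_of_flat_of_isLocalRing

theorem kill_free_off {σ : M ⟶ Coh.structureModule (CohB1.ProjSpace N k)} (e : M ≅ OA (-(q : ℤ))) (hq : 0 < q)
    (hM : PicF.IsInvertible M) : ∀ c : ℕ, c ≤ N → ∀ V : (CohB1.ProjSpace N k).Modules, Coh.IsCoh V →
      (∀ y, UnitAt σ y → Module.Free ((CohB1.ProjSpace N k).presheaf.stalk y) (stk V y)) → Kill σ c V := by
  intro c
  induction c with
  | zero => intro _ V _ _; exact ⟨fun a => ⟨a, le_rfl, fun j hj => absurd hj (by omega)⟩⟩
  | succ c ih =>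
    intro hc V hV hfree
    haveI := isNoetherian_projSpace (k := k) (N := N)
    obtain ⟨E, δ, hE, hδ⟩ := exists_split_emb V hV hfree
    have hB : Coh.IsCoh (du E) := LocSuppLib.isCoh_of_isFinLocFree (LefFlatLib.isFinLocFree_du hE.1)
    haveI := hV.1
    refine Kill.of_iso_off hM hV hB δ (fun y hy => (hδ y hy).1)
      (ih (by omega) _ (QCohLib.isCoh_cokernel δ hV.1 hB) fun y hy => (hδ y hy).2)
      (kill_of_van e hq (hE.2 (c + 1) hc).2)

theorem kill_of_pdlt {σ : M ⟶ Coh.structureModule (CohB1.ProjSpace N k)} (e : M ≅ OA (-(q : ℤ))) (hq : 0 < q)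
    (hM : PicF.IsInvertible M) : ∀ r c : ℕ, c + r ≤ N → ∀ G : (CohB1.ProjSpace N k).Modules, Coh.IsCoh G →
      (∀ y, IsClosed ({y} : Set (CohB1.ProjSpace N k : Scheme.{u})) → UnitAt σ y →
        CommAlgDim.PDLT ((CohB1.ProjSpace N k).presheaf.stalk y) (stk G y) (r + 1)) → Kill σ c G := by
  intro r
  induction r with
  | zero =>
    intro c hc G hG h
    haveI := isNoetherian_projSpace (k := k) (N := N)
    haveI := hG.1
    obtain ⟨hp, -, -⟩ := Groth.Agent.KoszOrthLib.projSpace_hyps N k
    haveI := hp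
    haveI : JacobsonSpace (CohB1.ProjSpace N k : Scheme.{u}) :=
      LocallyOfFiniteType.jacobsonSpace (CohB1.ProjSpace.toSpec N k)
    refine kill_free_off e hq hM c hc G hG fun y hy => ?_
    obtain ⟨z, ⟨hz, hzu⟩, hzc⟩ := nonempty_inter_closedPoints
      (Z := closure ({y} : Set (CohB1.ProjSpace N k : Scheme.{u})) ∩ {x | UnitAt σ x}) ⟨y, subset_closure rfl, hy⟩
      (isClosed_closure.isLocallyClosed.inter (isOpen_unitAt hM).isLocallyClosed)
    have h1 : CommAlgDim.PDLT ((CohB1.ProjSpace N k).presheaf.stalk y) (stk G y) 1 :=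
      (show y ⤳ z from specializes_iff_mem_closure.2 hz).mem_open (DepthLib.isOpen_pdlt_stalk G hG.2 1) (h z hzc hzu)
    haveI := CommAlgDim.pdlt_one_iff.1 h1
    haveI : Module.Finite ((CohB1.ProjSpace N k).presheaf.stalk y) (stk G y) := DepthLib.finite_stalk G hG.2 y
    exact Module.free_of_flat_of_isLocalRing
  | succ r ih =>
    intro c hc G hG h
    obtain ⟨E, g, hE, hg, hK⟩ := LefFlatLib.exists_good_epi N k G hG
    haveI := hg
    let S : ShortComplex (CohB1.ProjSpace N k).Modules := ShortComplex.mk (kernel.ι g) g (kernel.condition g)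
    have hS : S.ShortExact := ShortComplex.ShortExact.mk (ShortComplex.exact_kernel g)
    exact Kill.right hM hS (ih (c + 1) (by omega) (kernel g) hK
      fun y hy hu => (LefFlatLib.pdlt_kernel_iff N k g hE.1 y r).1 (h y hy hu)) (kill_of_van e hq (hE.2 c (by omega)).1)

end ProVanLib
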