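import Groth.Agent.LefFlatLib.Main
import Groth.Agent.FLILib.Ev
import Groth.Agent.ExtShLib.DivExt
import Groth.Agent.QCohLib.Coherent
import Groth.Agent.FlatLib.QStalk

/-!
# The tower of twists along a section

For an invertible module `M` with a map `σ : M ⟶ O` the tower `… → M² ⊗ G → M ⊗ G → G`.
-/

set_option autoImplicit false
set_option linter.unusedSectionVars false
set_option linter.style.haveILetI false
set_option maxHeartbeats 1000000
set_option backward.isDefEq.respectTransparency false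
set_option backward.isDefEq.respectTransparency.types false
universe u

open CategoryTheory CategoryTheory.Limits AlgebraicGeometry TopologicalSpace Opposite
open ProjFormLib (ger ger_res ger_map exists_ger res tF)
open KFlatLib (shTm tens)
open CohCmpLib (stk)
open PnDualLib (ins ins_ger bijective_ins)
open SurfExtLib (oneAt)

noncomputable section

namespace ProVanLib

variable {X : Scheme.{u}} {M : X.Modules} (σ : M ⟶ Coh.structureModule X)

/-- `M ⊗ G ⟶ G`. -/
def eta (G : X.Modules) : tens M G ⟶ G := ((DCoh.tensorBi (X := X)).map σ).app G ≫ ExtShLib.uL G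

theorem eta_natural {G G' : X.Modules} (φ : G ⟶ G') :
    ((DCoh.tensorBi (X := X)).obj M).map φ ≫ eta σ G' = eta σ G ≫ φ := by
  rw [eta, eta, ← Category.assoc, ((DCoh.tensorBi (X := X)).map σ).naturality φ, Category.assoc,
    ExtShLib.uL_natural, Category.assoc]

/-- The powers `G ↦ M^n ⊗ G`. -/
def En (M : X.Modules) : ℕ → (X.Modules ⥤ X.Modules)
  | 0 => 𝟭 _
  | n + 1 => En M n ⋙ (DCoh.tensorBi (X := X)).obj M

/-- The steps of the tower. -/
def step (G : X.Modules) (n : ℕ) : (En M (n + 1)).obj G ⟶ (En M n).obj G := eta σ ((En M n).obj G)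

theorem step_natural {G G' : X.Modules} (φ : G ⟶ G') (n : ℕ) :
    (En M (n + 1)).map φ ≫ step σ G' n = step σ G n ≫ (En M n).map φ :=
  eta_natural σ ((En M n).map φ)

/-- The tower. -/
def tow (G : X.Modules) : ℕᵒᵖ ⥤ X.Modules := Functor.ofOpSequence (X := fun n => (En M n).obj G) (step σ G)

/-- The transition maps of the tower. -/
def tm (G : X.Modules) {a b : ℕ} (h : a ≤ b) : (En M b).obj G ⟶ (En M a).obj G :=
  (tow σ G).map (homOfLE h).op

theorem tm_comp (G : X.Modules) {a b c : ℕ} (h : a ≤ b) (h' : b ≤ c) :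
    tm σ G h' ≫ tm σ G h = tm σ G (h.trans h') :=
  ((tow σ G).map_comp _ _).symm

theorem tm_refl (G : X.Modules) (a : ℕ) : tm σ G (le_refl a) = 𝟙 _ := (tow σ G).map_id _

theorem tm_succ (G : X.Modules) (a : ℕ) : tm σ G (Nat.le_succ a) = step σ G a :=
  Functor.ofOpSequence_map_homOfLE_succ _ a

theorem tm_natural {G G' : X.Modules} (φ : G ⟶ G') : ∀ {a b : ℕ} (h : a ≤ b),
    (En M b).map φ ≫ tm σ G' h = tm σ G h ≫ (En M a).map φ := by
  intro a b h
  induction b, h using Nat.le_induction with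
  | base => rw [tm_refl, tm_refl, Category.comp_id, Category.id_comp]
  | succ b hab ih =>
    rw [← tm_comp σ G' hab (Nat.le_succ b), ← tm_comp σ G hab (Nat.le_succ b), tm_succ, tm_succ,
      ← Category.assoc, step_natural, Category.assoc, ih, Category.assoc]

/-- The map to the bottom. -/
def ev (G : X.Modules) (n : ℕ) : (En M n).obj G ⟶ G := tm σ G (Nat.zero_le n)

theorem ev_natural {G G' : X.Modules} (φ : G ⟶ G') (n : ℕ) :
    (En M n).map φ ≫ ev σ G' n = ev σ G n ≫ φ := tm_natural σ φ (Nat.zero_le n)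

theorem tm_ev (G : X.Modules) {a b : ℕ} (h : a ≤ b) : tm σ G h ≫ ev σ G a = ev σ G b := tm_comp σ G _ h

/-! ### Stalks -/

variable (M) in
/-- A generator of the stalk. -/
def IsGen (x : X) (g : stk M x) : Prop := Function.Bijective fun c : X.presheaf.stalk x => c • g

/-- The value of `σ` at `g`. -/
def IsVal (x : X) (g : stk M x) (f : X.presheaf.stalk x) : Prop :=
  FLI.sMap σ x g = f • (oneAt x : stk (Coh.structureModule X) x)

theorem exists_val (x : X) (g : stk M x) : ∃ f, IsVal σ x g f := by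
  obtain ⟨f, hf⟩ := SurfExtLib.exists_smul_oneAt x (FLI.sMap σ x g)
  exact ⟨f, hf.symm⟩

variable {σ}

theorem eta_ins {x : X} {g : stk M x} {f : X.presheaf.stalk x} (hf : IsVal σ x g f) (G : X.Modules) (v : stk G x) :
    FLI.sMap (eta σ G) x (ins M G x g v) = f • v := by
  obtain ⟨U, hxU, l, rfl⟩ := exists_ger M x g
  obtain ⟨V, hxV, m, rfl⟩ := exists_ger G x v
  have hx : x ∈ U ⊓ V := ⟨hxU, hxV⟩
  rw [← ger_res M (inf_le_left : U ⊓ V ≤ U) x hx l] at hf ⊢
  rw [← ger_res G (inf_le_right : U ⊓ V ≤ V) x hx m, ins_ger]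
  let l' := res M (inf_le_left : U ⊓ V ≤ U) l
  let m' := res G (inf_le_right : U ⊓ V ≤ V) m
  let r : Γ(X, U ⊓ V) := σ.app (U ⊓ V) l'
  have hr : X.presheaf.germ (U ⊓ V) x hx r = f := SurfExtLib.smul_oneAt_injective x (by
    show X.presheaf.germ (U ⊓ V) x hx r • (oneAt x : stk (Coh.structureModule X) x) = f • oneAt x
    rw [← hf]
    exact (FLI.ger_smul_one x hx r).symm.trans (ger_map σ x hx l').symm)
  refine (ger_map (eta σ G) x hx _).trans ?_
  show ger G x hx ((ExtShLib.uL G).app (U ⊓ V) ((((DCoh.tensorBi (X := X)).map σ).app G).app (U ⊓ V) (shTm l' m'))) = _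
  rw [KFlatLib.tensorBi_map₁_shTm]
  refine (congrArg (ger G x hx) (ExtShLib.unitLeft_shTm G r m')).trans ?_
  rw [ProjFormLib.ger_smul, hr]

/-- Iterated tensoring with a generator. -/
def jn {x : X} (g : stk M x) (G : X.Modules) : (n : ℕ) → stk G x → stk ((En M n).obj G) x
  | 0 => id
  | n + 1 => fun v => ins M ((En M n).obj G) x g (jn g G n v)

theorem jn_bijective {x : X} {g : stk M x} (hg : IsGen M x g) (G : X.Modules) :
    ∀ n, Function.Bijective (jn g G n)
  | 0 => Function.bijective_id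
  | n + 1 => (bijective_ins M ((En M n).obj G) x g hg).comp (jn_bijective hg G n)

theorem jn_smul {x : X} (g : stk M x) (G : X.Modules) (c : X.presheaf.stalk x) :
    ∀ (n : ℕ) (v : stk G x), jn g G n (c • v) = c • jn g G n v
  | 0, v => rfl
  | n + 1, v => (congrArg _ (jn_smul g G c n v)).trans (map_smul _ _ _)

theorem tm_jn {x : X} {g : stk M x} {f : X.presheaf.stalk x} (hf : IsVal σ x g f) (G : X.Modules) :
    ∀ {a b : ℕ} (h : a ≤ b) (v : stk G x), FLI.sMap (tm σ G h) x (jn g G b v) = jn g G a (f ^ (b - a) • v) := by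
  intro a b h
  induction b, h using Nat.le_induction with
  | base =>
    intro v
    rw [tm_refl, Nat.sub_self, pow_zero, one_smul]
    exact congrArg (fun φ => φ.hom (jn g G a v)) ((DerSch.stalkFunctor X x).map_id _)
  | succ b hab ih =>
    intro v
    rw [← tm_comp σ G hab (Nat.le_succ b), FLI.sMap_comp, tm_succ]
    refine (congrArg (FLI.sMap (tm σ G hab) x) (eta_ins hf _ (jn g G b v))).trans ?_
    rw [← jn_smul, ih, smul_smul, ← pow_succ, Nat.succ_sub hab]

theorem ev_jn {x : X} {g : stk M x} {f : X.presheaf.stalk x} (hf : IsVal σ x g f) (G : X.Modules) (n : ℕ)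
    (v : stk G x) : FLI.sMap (ev σ G n) x (jn g G n v) = f ^ n • v := tm_jn hf G (Nat.zero_le n) v

theorem hom_ext_stalk {A B : X.Modules} {φ ψ : A ⟶ B} (h : ∀ (x : X) (a : stk A x), FLI.sMap φ x a = FLI.sMap ψ x a) :
    φ = ψ := by
  refine Scheme.Modules.hom_ext _ _ fun V => ?_
  ext n
  refine ProjFormLib.section_ext _ _ fun y hy => ?_
  rw [← ger_map φ y hy n, ← ger_map ψ y hy n]
  exact h y _

theorem exists_gen (hM : PicF.IsInvertible M) (x : X) : ∃ g : stk M x, IsGen M x g := by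
  obtain ⟨U, e, hxU, he⟩ := TwistLib.exists_genOn hM x
  exact ⟨_, he.genAt hxU⟩

/-- The two ways of taking a step agree. -/
theorem eta_symm (hM : PicF.IsInvertible M) (G : X.Modules) :
    ((DCoh.tensorBi (X := X)).obj M).map (eta σ G) = eta σ (tens M G) := by
  refine hom_ext_stalk fun x a => ?_
  obtain ⟨g, hg⟩ := exists_gen hM x
  obtain ⟨f, hf⟩ := exists_val σ x g
  obtain ⟨b, rfl⟩ := (bijective_ins M (tens M G) x g hg).2 a
  obtain ⟨v, rfl⟩ := (bijective_ins M G x g hg).2 b
  rw [eta_ins hf]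
  refine Eq.trans ?_ (map_smul (ins M G x g) f v)
  obtain ⟨U, hxU, l, rfl⟩ := exists_ger M x g
  obtain ⟨V, hxV, w, hw⟩ := exists_ger (tens M G) x (ins M G x (ger M x hxU l) v)
  have hx : x ∈ U ⊓ V := ⟨hxU, hxV⟩
  have h1 := eta_ins hf G v
  rw [← hw] at h1 ⊢
  rw [← ger_res M (inf_le_left : U ⊓ V ≤ U) x hx l]
  rw [← ger_res (tens M G) (inf_le_right : U ⊓ V ≤ V) x hx w] at h1 ⊢
  rw [ins_ger]
  refine (ger_map (((DCoh.tensorBi (X := X)).obj M).map (eta σ G)) x hx _).trans ?_
  rw [KFlatLib.tensorBi_map₂_shTm, ← ins_ger M G x hx, ← h1]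
  exact congrArg _ (ger_map (eta σ G) x hx _).symm

/-! ### Stabilisation -/

theorem exists_bound_chart {U : X.Opens} (hU : IsAffineOpen U) [IsLocallyNoetherian X] (l : Γ(M, U))
    (hl : AmpleLib.GenOn M l) (G : X.Modules) (hG : Coh.IsCoh G) :
    ∃ c : ℕ, ∀ (x : X) (_ : x ∈ U) (g : stk M x) (f : X.presheaf.stalk x), IsGen M x g → IsVal σ x g f →
      (∀ (n : ℕ) (v : stk G x), f ^ n • v = 0 → f ^ c • v = 0) ∧
      ((∀ y : X, (∀ g' f', IsGen M y g' → IsVal σ y g' f' → IsUnit f') → Subsingleton (stk G y)) →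
        ∀ v : stk G x, f ^ c • v = 0) := by
  haveI := hG.1
  haveI : IsNoetherianRing Γ(X, U) := IsLocallyNoetherian.component_noetherian ⟨U, hU⟩
  haveI : Module.Finite Γ(X, U) Γ(G, U) := QCohLib.finite_of_isFT hG.2 hU
  let r : Γ(X, U) := σ.app U l
  let K : ℕ →o Submodule Γ(X, U) Γ(G, U) :=
    ⟨fun n => LinearMap.ker (DistribMulAction.toLinearMap Γ(X, U) Γ(G, U) (r ^ n)),
      monotone_nat_of_le_succ fun n m hm => by
        simp only [LinearMap.mem_ker] at hm ⊢
        change r ^ n • m = 0 at hm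
        change r ^ (n + 1) • m = 0
        rw [pow_succ', mul_smul, hm, smul_zero]⟩
  obtain ⟨c, hc⟩ := monotone_stabilizes_iff_noetherian.2 inferInstance K
  have key : ∀ (n : ℕ) (m : Γ(G, U)), r ^ n • m = 0 → r ^ c • m = 0 := fun n m hm => by
    have h1 : m ∈ K (max n c) := K.monotone (le_max_left n c) hm
    rw [← hc (max n c) (le_max_right n c)] at h1
    exact h1
  refine ⟨c, fun x hx g f hg hf => ?_⟩
  letI := Module.compHom (G.presheaf.stalk x) (X.presheaf.germ U x hx).hom
  haveI := FlatLib.isLocalizedModule_germLin G hU hx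
  -- compare with the generator of the chart
  obtain ⟨e, he⟩ := (hl.genAt hx).2 g
  obtain ⟨e', he'⟩ := hg.2 (ger M x hx l)
  have hee : e' * e = 1 := hg.1 (by
    show (e' * e) • g = (1 : X.presheaf.stalk x) • g
    rw [one_smul, mul_comm, mul_smul]
    exact (congrArg (e • ·) he').trans he)
  have heu : IsUnit e := IsUnit.of_mul_eq_one_right e' hee
  have hfr : f = e * X.presheaf.germ U x hx r := SurfExtLib.smul_oneAt_injective x (by
    show f • (oneAt x : stk (Coh.structureModule X) x) = (e * X.presheaf.germ U x hx r) • oneAt x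
    rw [← hf, mul_smul, ← he]
    refine (map_smul (FLI.sMap σ x) e _).trans (congrArg (e • ·) ?_)
    exact (ger_map σ x hx l).trans (FLI.ger_smul_one x hx r))
  have hsm : ∀ (n : ℕ) (v : stk G x), f ^ n • v = 0 ↔ X.presheaf.germ U x hx (r ^ n) • v = 0 := fun n v => by
    rw [hfr, mul_pow, map_pow, mul_smul]
    exact (heu.pow n).smul_eq_zero
  have hgerm : ∀ (a : Γ(X, U)) (m : Γ(G, U)),
      G.presheaf.germ U x hx (a • m) = X.presheaf.germ U x hx a • G.presheaf.germ U x hx m := fun a m =>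
    FlatLib.germ_smul_mod G hx a m
  have hsurj : ∀ v : stk G x, ∃ (m : Γ(G, U)) (t : X.presheaf.stalk x), IsUnit t ∧
      t • v = G.presheaf.germ U x hx m := fun v => by
    obtain ⟨⟨m, t⟩, hmt⟩ := IsLocalizedModule.surj (hU.primeIdealOf ⟨x, hx⟩).asIdeal.primeCompl
      (FlatLib.germLin G hx) v
    letI : Algebra Γ(X, U) (X.presheaf.stalk x) := (X.presheaf.germ U x hx).hom.toAlgebra
    haveI : IsLocalization.AtPrime (X.presheaf.stalk x) (hU.primeIdealOf ⟨x, hx⟩).asIdeal :=
      hU.isLocalization_stalk ⟨x, hx⟩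
    exact ⟨m, X.presheaf.germ U x hx (t : Γ(X, U)), IsLocalization.map_units (X.presheaf.stalk x) t, hmt⟩
  constructor
  · intro n v hv
    obtain ⟨m, t, ht, hm⟩ := hsurj v
    rw [hsm] at hv ⊢
    have h0 : G.presheaf.germ U x hx (r ^ n • m) = 0 := by
      rw [hgerm, ← hm, smul_comm, hv, smul_zero]
    obtain ⟨w, hw⟩ := (IsLocalizedModule.eq_zero_iff (hU.primeIdealOf ⟨x, hx⟩).asIdeal.primeCompl
      (FlatLib.germLin G hx) (m := r ^ n • m)).1 h0
    have h1 : r ^ c • ((w : Γ(X, U)) • m) = 0 := key n _ (by rw [smul_comm]; exact hw)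
    have h2 : G.presheaf.germ U x hx (r ^ c • m) = 0 :=
      (IsLocalizedModule.eq_zero_iff (hU.primeIdealOf ⟨x, hx⟩).asIdeal.primeCompl
        (FlatLib.germLin G hx) (m := r ^ c • m)).2 ⟨w, (smul_comm _ _ _).trans h1⟩
    rw [hgerm, ← hm, smul_comm] at h2
    exact ht.smul_eq_zero.1 h2
  · intro hsupp v
    obtain ⟨m, t, ht, hm⟩ := hsurj v
    have hrad : r ∈ (Submodule.span Γ(X, U) {m}).annihilator.radical := by
      rw [Ideal.radical_eq_sInf]
      refine Ideal.mem_sInf.2 fun {p} hp => ?_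
      by_contra hr
      haveI := hp.2
      let y : X := hU.fromSpec ⟨p, hp.2⟩
      have hy : y ∈ U := hU.range_fromSpec.le ⟨_, rfl⟩
      have hpy : hU.primeIdealOf ⟨y, hy⟩ = ⟨p, hp.2⟩ :=
        hU.fromSpec.isOpenEmbedding.injective (hU.fromSpec_primeIdealOf ⟨y, hy⟩)
      letI := Module.compHom (G.presheaf.stalk y) (X.presheaf.germ U y hy).hom
      haveI := FlatLib.isLocalizedModule_germLin G hU hy
      have hru : IsUnit (X.presheaf.germ U y hy r) := by
        letI : Algebra Γ(X, U) (X.presheaf.stalk y) := (X.presheaf.germ U y hy).hom.toAlgebra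
        haveI : IsLocalization.AtPrime (X.presheaf.stalk y) (hU.primeIdealOf ⟨y, hy⟩).asIdeal :=
          hU.isLocalization_stalk ⟨y, hy⟩
        exact IsLocalization.map_units (X.presheaf.stalk y)
          (⟨r, by rw [hpy]; exact hr⟩ : (hU.primeIdealOf ⟨y, hy⟩).asIdeal.primeCompl)
      haveI : Subsingleton (stk G y) := hsupp y fun g' f' hg' hf' => by
        obtain ⟨a, ha⟩ := (hl.genAt hy).2 g'
        obtain ⟨a', ha'⟩ := hg'.2 (ger M y hy l)
        have haa : a' * a = 1 := hg'.1 (by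
          show (a' * a) • g' = (1 : X.presheaf.stalk y) • g'
          rw [one_smul, mul_comm, mul_smul]
          exact (congrArg (a • ·) ha').trans ha)
        have : f' = a * X.presheaf.germ U y hy r := SurfExtLib.smul_oneAt_injective y (by
          show f' • (oneAt y : stk (Coh.structureModule X) y) = (a * X.presheaf.germ U y hy r) • oneAt y
          rw [← hf', mul_smul, ← ha]
          refine (map_smul (FLI.sMap σ y) a _).trans (congrArg (a • ·) ?_)
          exact (ger_map σ y hy l).trans (FLI.ger_smul_one y hy r))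
        rw [this]
        exact (IsUnit.of_mul_eq_one_right a' haa).mul hru
      obtain ⟨w, hw⟩ := (IsLocalizedModule.eq_zero_iff (hU.primeIdealOf ⟨y, hy⟩).asIdeal.primeCompl
        (FlatLib.germLin G hy) (m := m)).1 (Subsingleton.elim (α := stk G y) _ _)
      have hw' : (w : Γ(X, U)) • m = 0 := hw
      have hwm : (w : Γ(X, U)) ∉ p := fun h => w.2 ((congrArg (fun q : PrimeSpectrum Γ(X, U) => (w : Γ(X, U)) ∈ q.asIdeal) hpy).mpr h)
      exact hwm (hp.1 ((Submodule.mem_annihilator_span_singleton m _).2 hw'))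
    obtain ⟨n, hn⟩ := hrad
    have h1 := key n m ((Submodule.mem_annihilator_span_singleton m _).1 hn)
    rw [hsm]
    refine ht.smul_eq_zero.1 ?_
    rw [smul_comm, hm, ← hgerm, h1, map_zero]

variable (σ) in
/-- `σ` is invertible at `x`. -/
def UnitAt (x : X) : Prop := ∀ g f, IsGen M x g → IsVal σ x g f → IsUnit f

/-- **Uniform stabilisation.** -/
theorem exists_bound [IsNoetherian X] (hM : PicF.IsInvertible M) (G : X.Modules) (hG : Coh.IsCoh G) :
    ∃ c : ℕ, ∀ (x : X) (g : stk M x) (f : X.presheaf.stalk x), IsGen M x g → IsVal σ x g f →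
      (∀ (n : ℕ) (v : stk G x), f ^ n • v = 0 → f ^ c • v = 0) ∧
      ((∀ y : X, UnitAt σ y → Subsingleton (stk G y)) → ∀ v : stk G x, f ^ c • v = 0) := by
  have hloc : ∀ x : X, ∃ (U : X.Opens) (_ : IsAffineOpen U) (l : Γ(M, U)), x ∈ U ∧ AmpleLib.GenOn M l := fun x => by
    obtain ⟨W, e, hxW, he⟩ := TwistLib.exists_genOn hM x
    obtain ⟨U, hU, hxU, hUW⟩ := exists_isAffineOpen_mem_and_subset (U := W) hxW
    exact ⟨U, hU, res M hUW e, hxU, he.res hUW⟩
  choose U hU l hmem hl using hloc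
  obtain ⟨T, hT⟩ := isCompact_univ.elim_finite_subcover (fun x => (U x : Set X)) (fun x => (U x).2)
    fun x _ => Set.mem_iUnion.2 ⟨x, hmem x⟩
  choose c hc using fun z : X => exists_bound_chart (σ := σ) (hU z) (l z) (hl z) G hG
  refine ⟨T.sup c, fun x g f hg hf => ?_⟩
  obtain ⟨z, hz, hxz⟩ := Set.mem_iUnion₂.1 (hT (Set.mem_univ x))
  obtain ⟨k, hk⟩ := Nat.exists_eq_add_of_le (Finset.le_sup (f := c) hz)
  refine ⟨fun n v hv => ?_, fun hs v => ?_⟩
  · rw [hk, pow_add, mul_comm, mul_smul, (hc z x hxz g f hg hf).1 n v hv, smul_zero]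
  · rw [hk, pow_add, mul_comm, mul_smul, (hc z x hxz g f hg hf).2 hs v, smul_zero]

/-- Elements killed at the bottom are killed `c` steps down. -/
theorem exists_ker_tm_eq_zero [IsNoetherian X] (hM : PicF.IsInvertible M) (G : X.Modules) (hG : Coh.IsCoh G) :
    ∃ c : ℕ, ∀ a : ℕ, kernel.ι (ev σ G (a + c)) ≫ tm σ G (Nat.le_add_right a c) = 0 := by
  obtain ⟨c, hc⟩ := exists_bound (σ := σ) hM G hG
  refine ⟨c, fun a => hom_ext_stalk fun x t => ?_⟩
  obtain ⟨g, hg⟩ := exists_gen hM x
  obtain ⟨f, hf⟩ := exists_val σ x g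
  obtain ⟨v, hv⟩ := (jn_bijective hg G (a + c)).2 (FLI.sMap (kernel.ι (ev σ G (a + c))) x t)
  have h0 : f ^ (a + c) • v = 0 := by
    rw [← ev_jn hf, hv, ← FLI.sMap_comp, kernel.condition, FLI.sMap_zero]
  rw [FLI.sMap_comp, ← hv, tm_jn hf, Nat.add_sub_cancel_left, (hc x g f hg hf).1 _ v h0, FLI.sMap_zero]
  exact (congrArg (jn g G a) (zero_smul (X.presheaf.stalk x) v).symm).trans
    ((jn_smul g G 0 a v).trans (zero_smul _ _))

/-- A module supported where `σ` vanishes is killed by the tower. -/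
theorem exists_tm_eq_zero [IsNoetherian X] (hM : PicF.IsInvertible M) (G : X.Modules) (hG : Coh.IsCoh G)
    (hs : ∀ y : X, UnitAt σ y → Subsingleton (stk G y)) :
    ∃ c : ℕ, ∀ a : ℕ, tm σ G (Nat.le_add_right a c) = 0 := by
  obtain ⟨c, hc⟩ := exists_bound (σ := σ) hM G hG
  refine ⟨c, fun a => hom_ext_stalk fun x t => ?_⟩
  obtain ⟨g, hg⟩ := exists_gen hM x
  obtain ⟨f, hf⟩ := exists_val σ x g
  obtain ⟨v, rfl⟩ := (jn_bijective hg G (a + c)).2 t
  rw [tm_jn hf, Nat.add_sub_cancel_left, (hc x g f hg hf).2 hs v, FLI.sMap_zero]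
  exact (congrArg (jn g G a) (zero_smul (X.presheaf.stalk x) v).symm).trans
    ((jn_smul g G 0 a v).trans (zero_smul _ _))

end ProVanLib
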